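import Mathlib.AlgebraicGeometry.ValuativeCriterion
import Mathlib.AlgebraicGeometry.PullbackCarrier
import Mathlib.RingTheory.FiniteType
import Mathlib.AlgebraicGeometry.Fiber

/-!
# Universal specialization of quasi-compact morphisms is tested on algebras of finite type
-/

set_option autoImplicit false

universe u

open CategoryTheory Limits AlgebraicGeometry MorphismProperty TopologicalSpace
open scoped TensorProduct

namespace DvrDomLib.Descent

variable {X : Scheme.{u}} {B : CommRingCat.{u}} (f : X ⟶ Spec B)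

/-- The base change of `f` to an algebra. -/
noncomputable abbrev bc (C : Type u) [CommRing C] [Algebra B C] : Scheme.{u} :=
  pullback f (Spec.map (CommRingCat.ofHom (algebraMap B C)))

variable {C D : Type u} [CommRing C] [Algebra B C] [CommRing D] [Algebra B D] (φ : D →ₐ[B] C)

theorem spec_map_algHom :
    Spec.map (CommRingCat.ofHom φ.toRingHom) ≫ Spec.map (CommRingCat.ofHom (algebraMap B D)) =
      Spec.map (CommRingCat.ofHom (algebraMap B C)) := by
  rw [← Spec.map_comp]
  congr 1
  ext b
  exact φ.commutes b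

/-- Transition map between base changes. -/
noncomputable def trans : bc f C ⟶ bc f D :=
  pullback.lift (pullback.fst _ _) (pullback.snd _ _ ≫ Spec.map (CommRingCat.ofHom φ.toRingHom))
    (by rw [Category.assoc, spec_map_algHom]; exact pullback.condition)

@[reassoc (attr := simp)]
theorem trans_fst : trans f φ ≫ pullback.fst _ _ = pullback.fst _ _ :=
  pullback.lift_fst _ _ _

@[reassoc (attr := simp)]
theorem trans_snd :
    trans f φ ≫ pullback.snd _ _ = pullback.snd _ _ ≫ Spec.map (CommRingCat.ofHom φ.toRingHom) :=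
  pullback.lift_snd _ _ _

theorem isPullback_trans :
    IsPullback (trans f φ) (pullback.snd _ _) (pullback.snd _ _)
      (Spec.map (CommRingCat.ofHom φ.toRingHom)) := by
  refine IsPullback.of_right ?_ (trans_snd f φ) (IsPullback.of_hasPullback _ _)
  rw [trans_fst, spec_map_algHom]
  exact IsPullback.of_hasPullback _ _

theorem trans_comp {E : Type u} [CommRing E] [Algebra B E] (ψ : E →ₐ[B] D) :
    trans f φ ≫ trans f ψ = trans f (φ.comp ψ) := by
  apply pullback.hom_ext
  · simp
  · simp only [Category.assoc, trans_snd, trans_snd_assoc, ← Spec.map_comp]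
    rfl

theorem map_mem_range_of_le {A : Type u} [CommRing A] [Algebra B A] {S T : Subalgebra B C}
    (h : S ≤ T) (x : A ⊗[B] S) :
    ∃ y : A ⊗[B] T, Algebra.TensorProduct.map (AlgHom.id B A) T.val y =
      Algebra.TensorProduct.map (AlgHom.id B A) S.val x := by
  induction x using TensorProduct.induction_on with
  | zero => exact ⟨0, by rw [map_zero, map_zero]⟩
  | tmul a c => exact ⟨a ⊗ₜ ⟨c.1, h c.2⟩, by simp⟩
  | add x y hx hy =>
    obtain ⟨x', hx⟩ := hx
    obtain ⟨y', hy⟩ := hy
    exact ⟨x' + y', by rw [map_add, map_add, hx, hy]⟩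

/-- Every element of `A ⊗ C` comes from a finitely generated subalgebra of `C`. -/
theorem exists_finset_mem_range (A : Type u) [CommRing A] [Algebra B A] (e : A ⊗[B] C) :
    ∃ s : Finset C, ∃ e₀ : A ⊗[B] (Algebra.adjoin B (s : Set C) : Subalgebra B C),
      Algebra.TensorProduct.map (AlgHom.id B A) (Algebra.adjoin B (s : Set C)).val e₀ = e := by
  classical
  induction e using TensorProduct.induction_on with
  | zero => exact ⟨∅, 0, map_zero _⟩
  | tmul a c => exact ⟨{c}, a ⊗ₜ ⟨c, Algebra.subset_adjoin (by simp)⟩, by simp⟩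
  | add x y hx hy =>
    obtain ⟨s, x₀, hx⟩ := hx
    obtain ⟨t, y₀, hy⟩ := hy
    have hs : Algebra.adjoin B (s : Set C) ≤ Algebra.adjoin B (↑(s ∪ t) : Set C) :=
      Algebra.adjoin_mono (by simp)
    have ht : Algebra.adjoin B (t : Set C) ≤ Algebra.adjoin B (↑(s ∪ t) : Set C) :=
      Algebra.adjoin_mono (by simp)
    obtain ⟨x₁, hx₁⟩ := map_mem_range_of_le hs x₀
    obtain ⟨y₁, hy₁⟩ := map_mem_range_of_le ht y₀
    exact ⟨s ∪ t, x₁ + y₁, by rw [map_add, hx₁, hy₁, hx, hy]⟩

/-- An affine chart of a base change. -/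
noncomputable def chart {A : CommRingCat.{u}} (ι : Spec A ⟶ X) [Algebra B A]
    (hι : ι ≫ f = Spec.map (CommRingCat.ofHom (algebraMap B A))) (C : Type u) [CommRing C]
    [Algebra B C] : Spec (CommRingCat.of (A ⊗[B] C)) ⟶ bc f C :=
  (pullbackSpecIso B A C).inv ≫ pullback.map _ _ _ _ ι (𝟙 _) (𝟙 _) (by simp [hι]) (by simp)

/-- A neighbourhood in a base change is pulled back from a finitely generated level. -/
theorem exists_local_descent (q : bc f C) (W : Set (bc f C)) (hW : IsOpen W) (hqW : q ∈ W) :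
    ∃ (s : Finset C) (V : (bc f (Algebra.adjoin B (s : Set C) : Subalgebra B C)).Opens),
      trans f (Algebra.adjoin B (s : Set C)).val q ∈ V ∧
        ∀ q', trans f (Algebra.adjoin B (s : Set C)).val q' ∈ V → q' ∈ W := by
  obtain ⟨j, x, hx⟩ := X.affineOpenCover.openCover.exists_eq (pullback.fst f _ q)
  obtain ⟨A, ι, hιopen, x₀, hx₀⟩ :
      ∃ (A : CommRingCat.{u}) (ι : Spec A ⟶ X), IsOpenImmersion ι ∧
        ∃ x₀, ι x₀ = pullback.fst f _ q :=
    ⟨_, X.affineOpenCover.f j, X.affineOpenCover.map_prop j, x, hx⟩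
  let := ((Spec.preimage (ι ≫ f)).hom).toAlgebra
  have hι : ι ≫ f = Spec.map (CommRingCat.ofHom (algebraMap B A)) :=
    (Spec.map_preimage (ι ≫ f)).symm
  have hrange : ∀ (D : Type u) [CommRing D] [Algebra B D],
      Set.range (chart f ι hι D) = pullback.fst f _ ⁻¹' Set.range ι := by
    intro D _ _
    show Set.range ⇑((pullbackSpecIso B A D).inv ≫ pullback.map _ _ _ _ ι (𝟙 _) (𝟙 _) _ _) = _
    rw [Scheme.Hom.comp_base, TopCat.coe_comp,
      (pullbackSpecIso B A D).inv.surjective.range_comp, Scheme.Pullback.range_map]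
    simp
  have hq : q ∈ Set.range (chart f ι hι C) := by
    rw [hrange]; exact ⟨x₀, hx₀⟩
  obtain ⟨t, rfl⟩ := hq
  obtain ⟨_, ⟨e, rfl⟩, hte, heW⟩ := PrimeSpectrum.isTopologicalBasis_basic_opens.exists_subset_of_mem_open
    (show t ∈ chart f ι hι C ⁻¹' W from hqW) (hW.preimage (chart f ι hι C).continuous)
  obtain ⟨s, e₀, he⟩ := exists_finset_mem_range A e
  let φs := (Algebra.adjoin B (s : Set C)).val
  let m := Algebra.TensorProduct.map (AlgHom.id B A) φs
  have hcompat : Spec.map (CommRingCat.ofHom m.toRingHom) ≫ chart f ι hι _ =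
      chart f ι hι C ≫ trans f φs := by
    apply pullback.hom_ext
    · simp only [chart, Category.assoc, trans_fst, pullback.lift_fst, pullbackSpecIso_inv_fst_assoc,
        pullback.map]
      rw [← Spec.map_comp_assoc]
      congr 2
    · simp only [chart, Category.assoc, trans_snd, pullback.lift_snd, pullbackSpecIso_inv_snd_assoc,
        pullback.lift_snd_assoc, pullback.map, Category.id_comp, Category.comp_id, ← Spec.map_comp]
      rw [pullbackSpecIso_inv_snd, ← Spec.map_comp]
      congr 1
  have : IsOpenImmersion (chart f ι hι (Algebra.adjoin B (s : Set C) : Subalgebra B C)) := by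
    unfold chart; infer_instance
  have hcomp : ∀ t' : Spec (CommRingCat.of (A ⊗[B] C)),
      trans f φs (chart f ι hι C t') = chart f ι hι _ (Spec.map (CommRingCat.ofHom m.toRingHom) t') := by
    intro t'
    rw [← Scheme.Hom.comp_apply, ← Scheme.Hom.comp_apply, hcompat]
  refine ⟨s, (chart f ι hι _) ''ᵁ (PrimeSpectrum.basicOpen e₀), ?_, fun q' hq' ↦ ?_⟩
  · show trans f φs (chart f ι hι C t) ∈ _
    rw [hcomp]
    refine ⟨_, ?_, rfl⟩
    show e₀ ∉ (PrimeSpectrum.comap m.toRingHom t).asIdeal
    intro h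
    exact hte (he ▸ h)
  · obtain ⟨p₀, hp₀, hpe⟩ := hq'
    have hq'' : q' ∈ Set.range (chart f ι hι C) := by
      rw [hrange]
      have : pullback.fst f _ q' = pullback.fst f _ (trans f φs q') := by
        rw [← Scheme.Hom.comp_apply, trans_fst]
      show pullback.fst f _ q' ∈ Set.range ι
      rw [this]
      have h := Set.mem_range_self (f := chart f ι hι _) p₀
      rw [hrange] at h
      rw [← hpe]
      exact h
    obtain ⟨t', rfl⟩ := hq''
    have hp : p₀ = Spec.map (CommRingCat.ofHom m.toRingHom) t' :=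
      (chart f ι hι _).isOpenEmbedding.injective (hpe.trans (hcomp t'))
    apply heW
    show e ∉ t'.asIdeal
    rw [← he]
    subst hp
    exact hp₀

theorem specializingMap_snd [QuasiCompact f]
    (H : ∀ (D : Type u) [CommRing D] [Algebra B D] [Algebra.FiniteType B D],
      SpecializingMap (pullback.snd f (Spec.map (CommRingCat.ofHom (algebraMap B D)))))
    (C : Type u) [CommRing C] [Algebra B C] :
    SpecializingMap (pullback.snd f (Spec.map (CommRingCat.ofHom (algebraMap B C)))) := by
  classical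
  intro z c hc
  by_contra hcon
  let g := pullback.snd f (Spec.map (CommRingCat.ofHom (algebraMap B C)))
  let W : Set (bc f C) := (closure {z})ᶜ
  have hW : IsOpen W := isClosed_closure.isOpen_compl
  have hfib : ∀ q, g q = c → q ∈ W := fun q hq hq' ↦
    hcon ⟨q, specializes_iff_mem_closure.mpr hq', hq⟩
  choose s V hqV hVW using fun q : {q // g q = c} ↦ exists_local_descent f q.1 W hW (hfib _ q.2)
  have hK : IsCompact (g ⁻¹' {c}) := g.isCompact_preimage_singleton c
  let O : {q // g q = c} → Set (bc f C) := fun q ↦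
    trans f (Algebra.adjoin B (s q : Set C)).val ⁻¹' (V q : Set _)
  obtain ⟨T, hT⟩ := hK.elim_finite_subcover O
    (fun q ↦ (V q).isOpen.preimage (Scheme.Hom.continuous _))
    (fun q hq ↦ Set.mem_iUnion.mpr ⟨⟨q, hq⟩, hqV ⟨q, hq⟩⟩)
  let S : Finset C := T.biUnion s
  let D : Subalgebra B C := Algebra.adjoin B (S : Set C)
  have hle : ∀ q ∈ T, Algebra.adjoin B (s q : Set C) ≤ D := fun q hq ↦
    Algebra.adjoin_mono (by exact_mod_cast Finset.subset_biUnion_of_mem s hq)
  have : Algebra.FiniteType B D := D.fg_iff_finiteType.mp (Subalgebra.fg_adjoin_finset S)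
  let φ : D →ₐ[B] C := D.val
  have hsnd : pullback.snd f _ (trans f φ z) =
      Spec.map (CommRingCat.ofHom φ.toRingHom) (g z) := by
    rw [← Scheme.Hom.comp_apply, trans_snd]
    rfl
  obtain ⟨w, hw, hwc⟩ := H D
    (a := trans f φ z) (b := Spec.map (CommRingCat.ofHom φ.toRingHom) c)
    (hsnd ▸ hc.map (Scheme.Hom.continuous _))
  obtain ⟨q, hq₁, hq₂⟩ := Scheme.exists_preimage_of_isPullback (isPullback_trans f φ) w c hwc
  obtain ⟨_, ⟨q₀, rfl⟩, _, ⟨hq₀T, rfl⟩, hqq₀⟩ := hT hq₂
  let ψ : (Algebra.adjoin B (s q₀ : Set C) : Subalgebra B C) →ₐ[B] D :=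
    Subalgebra.inclusion (hle q₀ hq₀T)
  have hψ : φ.comp ψ = (Algebra.adjoin B (s q₀ : Set C)).val := rfl
  have hwV : trans f ψ w ∈ V q₀ := by
    rw [← hq₁, ← Scheme.Hom.comp_apply, trans_comp, hψ]
    exact hqq₀
  have hzV : trans f ψ (trans f φ z) ∈ V q₀ :=
    (hw.map (trans f ψ).continuous).mem_open (V q₀).isOpen hwV
  rw [← Scheme.Hom.comp_apply, trans_comp, hψ] at hzV
  exact hVW q₀ z hzV (subset_closure rfl)

/-- A quasi-compact morphism to an affine scheme is universally specializing as soon as its base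
changes to algebras of finite type are specializing. -/
theorem universally_specializingMap [QuasiCompact f]
    (H : ∀ (D : Type u) [CommRing D] [Algebra B D] [Algebra.FiniteType B D],
      SpecializingMap (pullback.snd f (Spec.map (CommRingCat.ofHom (algebraMap B D))))) :
    universally (topologically @SpecializingMap) f := by
  intro X' T i₁ g f' hP z c hc
  obtain ⟨_, ⟨U, hU, rfl⟩, hcU, -⟩ :=
    T.isBasis_affineOpens.exists_subset_of_mem_open (Set.mem_univ c) isOpen_univ
  have hU : IsAffineOpen U := hU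
  let u := hU.fromSpec
  let := ((Spec.preimage (u ≫ g)).hom).toAlgebra
  have hu : u ≫ g = Spec.map (CommRingCat.ofHom (algebraMap B Γ(T, U))) :=
    (Spec.map_preimage (u ≫ g)).symm
  let Q := bc f Γ(T, U)
  let v : Q ⟶ X' := hP.lift (pullback.snd _ _ ≫ u) (pullback.fst _ _) (by
    rw [Category.assoc, hu]; exact pullback.condition.symm)
  have hsq : IsPullback v (pullback.snd _ _) f' u := by
    refine IsPullback.of_right ?_ (hP.lift_fst _ _ _) hP.flip
    rw [hP.lift_snd, hu]
    exact IsPullback.of_hasPullback _ _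
  obtain ⟨c₁, hc₁⟩ : ∃ c₁, u c₁ = f' z := by
    have : f' z ∈ Set.range u := by rw [hU.range_fromSpec]; exact hc.mem_open U.isOpen hcU
    exact this
  obtain ⟨c₀, hc₀⟩ : ∃ c₀, u c₀ = c := by
    have : c ∈ Set.range u := by rw [hU.range_fromSpec]; exact hcU
    exact this
  obtain ⟨z₀, hz₁, hz₂⟩ := Scheme.exists_preimage_of_isPullback hsq z c₁ hc₁.symm
  have hspec : pullback.snd f _ z₀ ⤳ c₀ := by
    rw [hz₂, ← u.isOpenEmbedding.isInducing.specializes_iff, hc₁, hc₀]
    exact hc
  obtain ⟨w, hw, hwc⟩ := specializingMap_snd f H Γ(T, U) hspec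
  refine ⟨v w, hz₁ ▸ hw.map v.continuous, ?_⟩
  rw [← Scheme.Hom.comp_apply, hsq.w, Scheme.Hom.comp_apply, hwc, hc₀]

end DvrDomLib.Descent
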