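import Groth.Agent.DvrDom.Basic
import Mathlib.AlgebraicGeometry.ValuativeCriterion
import Mathlib.AlgebraicGeometry.Noetherian
import Mathlib.AlgebraicGeometry.Morphisms.FiniteType
import Mathlib.AlgebraicGeometry.ResidueField
import Mathlib.RingTheory.RingHom.EssFiniteType

/-!
# Discrete valuation rings and specializations on locally Noetherian schemes
-/

set_option autoImplicit false

universe u

open CategoryTheory Limits AlgebraicGeometry

namespace DvrDomLib

theorem closure_eq_top_of_essFiniteType {A L : Type*} [CommRing A] [Field L] [Algebra A L]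
    [Algebra.EssFiniteType A L] :
    ∃ s : Finset L, Subfield.closure (Set.range (algebraMap A L) ∪ s) = ⊤ := by
  obtain ⟨s, hs⟩ := (Algebra.essFiniteType_iff A L).mp ‹_›
  refine ⟨s, eq_top_iff.mpr fun z _ ↦ ?_⟩
  obtain ⟨t, ht, htu, hzt⟩ := hs z
  have hle : ∀ w ∈ Algebra.adjoin A (s : Set L),
      w ∈ Subfield.closure (Set.range (algebraMap A L) ∪ s) := by
    intro w hw
    induction hw using Algebra.adjoin_induction with
    | mem y hy => exact Subfield.subset_closure (Or.inr hy)
    | algebraMap r => exact Subfield.subset_closure (Or.inl ⟨r, rfl⟩)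
    | add a b _ _ ha hb => exact add_mem ha hb
    | mul a b _ _ ha hb => exact mul_mem ha hb
  have := div_mem (hle _ hzt) (hle _ ht)
  rwa [mul_div_cancel_right₀ _ htu.ne_zero] at this

/-- Through every proper specialization of the image of a point there is a discrete valuation
ring of the residue field of that point. -/
theorem exists_dvr_through_specialization {X Y : Scheme.{u}} [IsLocallyNoetherian Y] (p : X ⟶ Y)
    [LocallyOfFiniteType p] (x : X) (y' : Y) (hsp : p x ⤳ y') (hne : y' ≠ p x) :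
    ∃ (A : ValuationSubring (X.residueField x)) (h : Spec (CommRingCat.of A) ⟶ Y),
      IsDiscreteValuationRing A ∧ h (IsLocalRing.closedPoint A) = y' ∧
        Spec.map (CommRingCat.ofHom A.subtype) ≫ h = X.fromSpecResidueField x ≫ p := by
  obtain ⟨_, ⟨U, hU, rfl⟩, hy'U, -⟩ :=
    Y.isBasis_affineOpens.exists_subset_of_mem_open (Set.mem_univ y') isOpen_univ
  have hU : IsAffineOpen U := hU
  have hyU : p x ∈ U := hsp.mem_open U.isOpen hy'U
  have : IsNoetherianRing Γ(Y, U) := IsLocallyNoetherian.component_noetherian ⟨U, hU⟩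
  let ψ : Γ(Y, U) ⟶ X.residueField x :=
    Y.presheaf.germ U (p x) hyU ≫ p.stalkMap x ≫ X.residue x
  let := ψ.hom.toAlgebra
  have hess : Algebra.EssFiniteType Γ(Y, U) (X.residueField x) := by
    have h1 : (Y.presheaf.germ U (p x) hyU).hom.EssFiniteType := by
      let := (Y.presheaf.germ U (p x) hyU).hom.toAlgebra
      have : IsLocalization.AtPrime (Y.presheaf.stalk (p x)) (hU.primeIdealOf ⟨p x, hyU⟩).asIdeal :=
        hU.isLocalization_stalk ⟨p x, hyU⟩
      exact Algebra.EssFiniteType.of_isLocalization (R := Γ(Y, U)) (Y.presheaf.stalk (p x))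
        (hU.primeIdealOf ⟨p x, hyU⟩).asIdeal.primeCompl
    have h2 : (X.residue x).hom.EssFiniteType :=
      RingHom.FiniteType.essFiniteType (RingHom.FiniteType.of_surjective _ (X.residue_surjective x))
    exact RingHom.EssFiniteType.stableUnderComposition _ _ h1
      (RingHom.EssFiniteType.stableUnderComposition _ _ (LocallyOfFiniteType.stalkMap p x) h2)
  obtain ⟨s, hs⟩ := closure_eq_top_of_essFiniteType (A := Γ(Y, U)) (L := X.residueField x)
  let P : Ideal Γ(Y, U) := (hU.primeIdealOf ⟨y', hy'U⟩).asIdeal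
  have hψ : ∀ a : Γ(Y, U), ψ.hom a = 0 ↔ p x ∉ Y.basicOpen a := by
    intro a
    rw [Y.mem_basicOpen a (p x) hyU]
    show X.residue x (p.stalkMap x (Y.presheaf.germ U (p x) hyU a)) = 0 ↔ _
    show IsLocalRing.residue (X.presheaf.stalk x) (p.stalkMap x (Y.presheaf.germ U (p x) hyU a)) = 0 ↔ _
    rw [IsLocalRing.residue_eq_zero_iff, IsLocalRing.mem_maximalIdeal, mem_nonunits_iff]
    exact not_congr ⟨fun h ↦ isUnit_of_map_unit (p.stalkMap x).hom _ h, fun h ↦ h.map _⟩
  have hP : ∀ a : Γ(Y, U), a ∈ P ↔ y' ∉ Y.basicOpen a := by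
    intro a
    rw [Y.mem_basicOpen a y' hy'U]
    show a ∈ (hU.primeIdealOf ⟨y', hy'U⟩).asIdeal ↔ _
    rw [hU.primeIdealOf_eq_map_closedPoint]
    exact IsLocalRing.mem_maximalIdeal _
  have hker : RingHom.ker ψ.hom ≤ P := fun a ha ↦
    (hP a).mpr fun h ↦ (hψ a).mp ha (hsp.mem_open (Y.basicOpen a).isOpen h)
  have hne' : ∃ a ∈ P, ψ.hom a ≠ 0 := by
    have hns : ¬ y' ⤳ p x := fun h ↦ hne (h.antisymm hsp).eq
    rw [specializes_iff_forall_open] at hns
    push Not at hns
    obtain ⟨V, hV, hxV, hy'V⟩ := hns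
    obtain ⟨a, haV, hxa⟩ := hU.exists_basicOpen_le (V := ⟨V, hV⟩) ⟨p x, hxV⟩ hyU
    exact ⟨a, (hP a).mpr fun h ↦ hy'V (haV h), fun h ↦ (hψ a).mp h hxa⟩
  obtain ⟨R, hR, hmem, hval⟩ := exists_dvr_dominating P hker hne' s hs
  let φ : Γ(Y, U) →+* R := ψ.hom.codRestrict R hmem
  refine ⟨R, Spec.map (CommRingCat.ofHom φ) ≫ hU.fromSpec, hR, ?_, ?_⟩
  · refine Eq.trans ?_ (hU.fromSpec_primeIdealOf ⟨y', hy'U⟩)
    show hU.fromSpec _ = _
    refine congrArg hU.fromSpec (PrimeSpectrum.ext ?_)
    ext a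
    show φ a ∈ IsLocalRing.maximalIdeal R ↔ a ∈ P
    rw [← ValuationSubring.coe_mem_nonunits_iff, ValuationSubring.mem_nonunits_iff]
    exact hval a
  · rw [← Category.assoc, ← Spec.map_comp]
    have : CommRingCat.ofHom φ ≫ CommRingCat.ofHom R.subtype = ψ := rfl
    rw [this, Scheme.fromSpecResidueField, Category.assoc, ← Scheme.SpecMap_stalkMap_fromSpecStalk,
      ← hU.fromSpecStalk_eq_fromSpecStalk hyU, IsAffineOpen.fromSpecStalk]
    simp only [ψ, Spec.map_comp, Category.assoc]

end DvrDomLib
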