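import Mathlib.RingTheory.Valuation.LocalSubring
import Mathlib.RingTheory.OrderOfVanishing.Basic
import Mathlib.RingTheory.DiscreteValuationRing.TFAE
import Mathlib.RingTheory.Ideal.KrullsHeightTheorem
import Mathlib.RingTheory.Adjoin.FG
import Mathlib.RingTheory.FiniteType
import Mathlib.RingTheory.Polynomial.Ideal
import Mathlib.FieldTheory.IntermediateField.Adjoin.Defs

/-!
# Discrete valuation rings dominating Noetherian local domains

`DvrDomLib.isNoetherianRing_of_between`: every ring between a one-dimensional Noetherian domain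
and its field of fractions is Noetherian (Krull–Akizuki for the trivial extension).
`DvrDomLib.exists_dvr_dominating`: existence of dominating discrete valuation rings.
-/

set_option autoImplicit false

universe u v

namespace DvrDomLib

open IsLocalRing
open scoped Pointwise

section Between

variable {D : Type*} [CommRing D] [IsDomain D] [IsNoetherianRing D] [Ring.KrullDimLE 1 D]

/-- The image of `I` in `D ⧸ a • I` has length `ord a`. -/
theorem length_map_mkQ_smul (a : D) (ha : a ≠ 0) (I : Ideal D) (hI : I ≠ ⊥) :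
    Module.length D (Submodule.map (Submodule.mkQ (a • I)) I : Submodule D (D ⧸ a • I)) =
      Ring.ord D a := by
  have ha' : a ∈ nonZeroDivisors D := mem_nonZeroDivisors_of_ne_zero ha
  have hle : a • I ≤ I := by
    intro x hx
    obtain ⟨y, hy, rfl⟩ := Submodule.mem_map.mp hx
    exact I.mul_mem_left a hy
  have h1 := Module.length_eq_add_of_exact (Ideal.mulQuot a I) (Ideal.quotOfMul a I)
    (Ideal.mulQuot_injective I ha') (Ideal.quotOfMul_surjective I) (Ideal.exact_mulQuot_quotOfMul I)
  let J : Submodule D (D ⧸ a • I) := Submodule.map (Submodule.mkQ (a • I)) I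
  let g : (D ⧸ a • I) →ₗ[D] D ⧸ I := Submodule.factor hle
  have hex : Function.Exact J.subtype g := by
    rw [LinearMap.exact_iff, Submodule.range_subtype]
    show LinearMap.ker (Submodule.mapQ (a • I) I LinearMap.id _) = _
    rw [Submodule.mapQ, Submodule.ker_liftQ, LinearMap.comp_id, Submodule.ker_mkQ]
  have h2 := Module.length_eq_add_of_exact J.subtype g J.subtype_injective
    (Submodule.factor_surjective hle) hex
  rw [h1] at h2
  obtain ⟨b, hb, hb0⟩ := Submodule.exists_mem_ne_zero_of_ne_bot hI
  have hfin : Module.length D (D ⧸ I) ≠ ⊤ := by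
    refine ne_top_of_le_ne_top (Ring.ord_ne_top (mem_nonZeroDivisors_of_ne_zero hb0))
      (Module.length_le_of_surjective (Submodule.factor ((Ideal.span_singleton_le_iff_mem I).mpr hb))
        (Submodule.factor_surjective _))
  rw [add_comm] at h2
  exact ((WithTop.add_right_inj hfin).mp h2).symm

variable {K : Type*} [Field K] [Algebra D K] [IsFractionRing D K]

theorem isNoetherianRing_of_between (R : Subalgebra D K) : IsNoetherianRing R := by
  have hinj : Function.Injective (algebraMap D R) := fun x y h ↦
    IsFractionRing.injective D K (congrArg Subtype.val h)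
  rw [isNoetherianRing_iff_ideal_fg]
  intro J
  by_cases hJ : J = ⊥
  · rw [hJ]; exact Submodule.fg_bot
  obtain ⟨x, hx, hx0⟩ := Submodule.exists_mem_ne_zero_of_ne_bot hJ
  obtain ⟨n, d, hd, hnd⟩ := IsFractionRing.div_surjective D (x : K)
  have hd0 : algebraMap D K d ≠ 0 := IsFractionRing.to_map_ne_zero_of_mem_nonZeroDivisors hd
  have hn : algebraMap D R n = d • x := by
    apply Subtype.ext
    rw [Subalgebra.coe_algebraMap, Subalgebra.coe_smul, Algebra.smul_def, ← hnd,
      mul_div_cancel₀ _ hd0]
  have hnJ : algebraMap D R n ∈ J := hn ▸ Submodule.smul_of_tower_mem J d hx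
  have hn0 : n ≠ 0 := by
    rintro rfl
    apply hx0
    apply Subtype.ext
    simp [← hnd]
  -- the quotient `R ⧸ n R` as a `D`-module
  let aR : Submodule D R := LinearMap.range (LinearMap.lsmul D R n)
  suffices hN : IsNoetherian D (R ⧸ aR) by
    obtain ⟨t, ht⟩ := IsNoetherian.noetherian (Submodule.map aR.mkQ (J.restrictScalars D))
    have hmem : ∀ q ∈ t, ∃ j ∈ J, aR.mkQ j = q := fun q hq ↦ by
      have h : q ∈ Submodule.map aR.mkQ (J.restrictScalars D) := ht ▸ Submodule.subset_span hq
      exact Submodule.mem_map.mp h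
    choose! lift hliftJ hlift using hmem
    classical
    refine ⟨insert (algebraMap D R n) (t.image lift), le_antisymm ?_ ?_⟩
    · rw [Submodule.span_le]
      intro y hy
      simp only [Finset.coe_insert, Finset.coe_image, Set.mem_insert_iff, Set.mem_image] at hy
      rcases hy with rfl | ⟨q, hq, rfl⟩
      · exact hnJ
      · exact hliftJ q hq
    · intro y hy
      let S : Submodule R R :=
        Submodule.span R (↑(insert (algebraMap D R n) (t.image lift)) : Set R)
      show y ∈ S
      have hy' : aR.mkQ y ∈ Submodule.span D (t : Set (R ⧸ aR)) := by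
        rw [ht]; exact Submodule.mem_map_of_mem hy
      have h2 : Submodule.span D (t : Set (R ⧸ aR)) ≤
          Submodule.map aR.mkQ (S.restrictScalars D) := by
        rw [Submodule.span_le]
        intro q hq
        refine ⟨lift q, Submodule.subset_span ?_, hlift q hq⟩
        simp only [Finset.coe_insert, Finset.coe_image, Set.mem_insert_iff, Set.mem_image]
        exact Or.inr ⟨q, hq, rfl⟩
      obtain ⟨s, hs, hsy⟩ := Submodule.mem_map.mp (h2 hy')
      obtain ⟨r, hr⟩ := (Submodule.Quotient.eq aR).mp hsy.symm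
      have : y = r • algebraMap D R n + s := by
        rw [smul_eq_mul, mul_comm, ← Algebra.smul_def]
        exact eq_add_of_sub_eq hr.symm
      rw [this]
      exact add_mem (S.smul_mem r (Submodule.subset_span (by simp))) hs
  -- the bounded exhaustion of `R ⧸ n R`
  let I : D → Ideal D := fun c ↦ (Subalgebra.toSubmodule R).comap
    ((algebraMap D K c)⁻¹ • Algebra.linearMap D K)
  let φ (c : D) : I c →ₗ[D] (R ⧸ aR) := aR.mkQ ∘ₗ LinearMap.codRestrict (Subalgebra.toSubmodule R)
    (((algebraMap D K c)⁻¹ • Algebra.linearMap D K) ∘ₗ (I c).subtype) (fun i ↦ i.2)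
  have hIne : ∀ c : D, c ≠ 0 → I c ≠ ⊥ := by
    intro c hc hbot
    have : c ∈ I c := by
      show (algebraMap D K c)⁻¹ * algebraMap D K c ∈ R
      rw [inv_mul_cancel₀ (by simpa using hc)]
      exact one_mem R
    rw [hbot] at this
    exact hc ((Submodule.mem_bot D).mp this)
  have hbound : ∀ c : D, c ≠ 0 →
      Module.length D (LinearMap.range (φ c)) ≤ Ring.ord D n := by
    intro c hc
    rw [← length_map_mkQ_smul n hn0 (I c) (hIne c hc)]
    let ψ : I c →ₗ[D] Submodule.map (Submodule.mkQ (n • I c)) (I c) :=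
      (Submodule.mkQ (n • I c)).submoduleMap (I c)
    have hψ : Function.Surjective ψ := LinearMap.submoduleMap_surjective _ _
    have hker : LinearMap.ker ψ ≤ LinearMap.ker (φ c).rangeRestrict := by
      intro i hi
      have hi' : (i : D) ∈ n • I c := by
        have := congrArg Subtype.val (LinearMap.mem_ker.mp hi)
        have h0 : (Submodule.mkQ (n • I c)) (i : D) = 0 := by simpa [ψ] using this
        exact (Submodule.Quotient.mk_eq_zero _).mp h0
      obtain ⟨j, hj, hji⟩ := Submodule.mem_map.mp hi'
      rw [LinearMap.mem_ker]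
      apply Subtype.ext
      show aR.mkQ _ = 0
      rw [Submodule.mkQ_apply, Submodule.Quotient.mk_eq_zero]
      refine ⟨⟨_, hj⟩, Subtype.ext ?_⟩
      have hji' : n * j = i := hji
      show n • ((algebraMap D K c)⁻¹ * algebraMap D K j) =
        (algebraMap D K c)⁻¹ * algebraMap D K i
      rw [← hji', map_mul, Algebra.smul_def]
      ring
    exact Module.length_le_of_surjective
      ((Submodule.liftQ _ _ hker).comp
        ((ψ.quotKerEquivOfSurjective hψ).symm : _ →ₗ[D] _))
      (by
        intro y
        obtain ⟨i, hi⟩ := (φ c).surjective_rangeRestrict y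
        refine ⟨ψ i, ?_⟩
        have : (ψ.quotKerEquivOfSurjective hψ).symm (ψ i) = Submodule.Quotient.mk i := by
          rw [LinearEquiv.symm_apply_eq]; rfl
        simpa [this] using hi)
  have hmono : ∀ c c' : D, c ≠ 0 → c' ≠ 0 →
      LinearMap.range (φ c) ≤ LinearMap.range (φ (c' * c)) := by
    rintro c c' hc hc' _ ⟨i, rfl⟩
    have key : (algebraMap D K (c' * c))⁻¹ * algebraMap D K (c' * (i : D)) =
        (algebraMap D K c)⁻¹ * algebraMap D K (i : D) := by
      have h1 : algebraMap D K c ≠ 0 := by simpa using hc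
      have h2 : algebraMap D K c' ≠ 0 := by simpa using hc'
      rw [map_mul, map_mul]
      field_simp
    have hmem : c' * (i : D) ∈ I (c' * c) := by
      show (algebraMap D K (c' * c))⁻¹ * algebraMap D K (c' * (i : D)) ∈ R
      rw [key]
      exact i.2
    refine ⟨⟨_, hmem⟩, ?_⟩
    refine congrArg aR.mkQ (Subtype.ext ?_)
    exact key
  -- pick a maximal one
  let ℓ : D → ℕ := fun c ↦ (Module.length D (LinearMap.range (φ c))).toNat
  have hordfin : Ring.ord D n ≠ ⊤ := Ring.ord_ne_top (mem_nonZeroDivisors_of_ne_zero hn0)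
  have hfin : ∀ c : D, c ≠ 0 → Module.length D (LinearMap.range (φ c)) ≠ ⊤ := fun c hc ↦
    ne_top_of_le_ne_top hordfin (hbound c hc)
  obtain ⟨c₀, hc₀, hmax⟩ : ∃ c₀ : D, c₀ ≠ 0 ∧ ∀ c : D, c ≠ 0 → ℓ c ≤ ℓ c₀ := by
    let T : Set ℕ := ℓ '' {c | c ≠ 0}
    have hT : BddAbove T := ⟨(Ring.ord D n).toNat, by
      rintro _ ⟨c, hc, rfl⟩
      exact ENat.toNat_le_toNat (hbound c hc) hordfin⟩
    obtain ⟨c₀, hc₀, e⟩ := Nat.sSup_mem (s := T) ⟨_, 1, one_ne_zero, rfl⟩ hT
    exact ⟨c₀, hc₀, fun c hc ↦ e ▸ le_csSup hT ⟨c, hc, rfl⟩⟩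
  have hstab : ∀ c : D, c ≠ 0 → LinearMap.range (φ c) ≤ LinearMap.range (φ c₀) := by
    intro c hc
    have hcc : c * c₀ ≠ 0 := mul_ne_zero hc hc₀
    have hle := hmono c₀ c hc₀ hc
    have heq : LinearMap.range (φ c₀) = LinearMap.range (φ (c * c₀)) := by
      have hfl : IsFiniteLength D (LinearMap.range (φ (c * c₀))) :=
        Module.length_ne_top_iff.mp (hfin _ hcc)
      have := (isFiniteLength_iff_isNoetherian_isArtinian.mp hfl).1
      have := (isFiniteLength_iff_isNoetherian_isArtinian.mp hfl).2
      by_contra hne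
      have hlt : ((LinearMap.range (φ c₀)).comap (LinearMap.range (φ (c * c₀))).subtype) ≠ ⊤ := by
        rw [Ne, Submodule.comap_subtype_eq_top]
        exact fun h ↦ hne (le_antisymm hle h)
      have h1 := Submodule.length_lt hlt
      rw [(Submodule.comapSubtypeEquivOfLe hle).length_eq] at h1
      have h2 : ℓ c₀ < ℓ (c * c₀) := by
        rw [← ENat.natCast_lt_natCast, ENat.natCast_toNat (hfin _ hc₀), ENat.natCast_toNat (hfin _ hcc)]
        exact h1
      exact absurd (hmax _ hcc) (by omega)
    rw [heq, mul_comm]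
    exact hmono c c₀ hc hc₀
  have htop : LinearMap.range (φ c₀) = ⊤ := by
    rw [eq_top_iff]
    intro q _
    obtain ⟨r, rfl⟩ := aR.mkQ_surjective q
    obtain ⟨m, c, hc, hmc⟩ := IsFractionRing.div_surjective D (r : K)
    have hm : (algebraMap D K c)⁻¹ * algebraMap D K m = r := by rw [← hmc]; ring
    have hmI : m ∈ I c := by
      show (algebraMap D K c)⁻¹ * algebraMap D K m ∈ R
      rw [hm]; exact r.2
    refine hstab c (nonZeroDivisors.ne_zero hc) ⟨⟨m, hmI⟩, ?_⟩
    exact congrArg aR.mkQ (Subtype.ext hm)
  exact isNoetherian_of_surjective _ htop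

end Between

section Dominate

variable {L : Type u} [Field L]

/-- A subring generating a field as a field has that field as fraction field. -/
theorem isFractionRing_of_closure_eq_top (C : Subring L)
    (h : Subfield.closure (C : Set L) = ⊤) : IsFractionRing C L := by
  let f : FractionRing C →+* L := IsFractionRing.lift (g := C.subtype) Subtype.val_injective
  have hf : ∀ c : C, f (algebraMap C (FractionRing C) c) = c := fun c ↦
    IsFractionRing.lift_algebraMap Subtype.val_injective c
  have hsurj : Function.Surjective f := by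
    intro z
    have : Subfield.closure (C : Set L) ≤ f.fieldRange := by
      rw [Subfield.closure_le]
      exact fun c hc ↦ ⟨algebraMap C _ ⟨c, hc⟩, hf _⟩
    rw [h] at this
    exact this (Subfield.mem_top z)
  let e : FractionRing C ≃ₐ[C] L :=
    AlgEquiv.ofBijective { f with commutes' := hf } ⟨f.injective, hsurj⟩
  exact IsLocalization.isLocalization_of_algEquiv _ e

/-- A Noetherian local domain, not a field, inside a field finitely generated over it is dominated
by a discrete valuation ring of that field. -/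
theorem exists_dvr_dominating_subring (A : Subring L) [IsNoetherianRing A] [IsLocalRing A]
    (hA : maximalIdeal A ≠ ⊥) (s : Finset L)
    (hs : Subfield.closure ((A : Set L) ∪ s) = ⊤) :
    ∃ R : ValuationSubring L, IsDiscreteValuationRing R ∧ A ≤ R.toSubring ∧
      ∀ a ∈ maximalIdeal A, R.valuation (a : L) < 1 := by
  classical
  obtain ⟨V₀, hle₀, hloc₀⟩ := LocalSubring.exists_le_valuationSubring ⟨A⟩
  have hm₀ : ∀ a ∈ maximalIdeal A, V₀.valuation (a : L) < 1 := by
    intro a ha
    refine (V₀.valuation_lt_one_iff ⟨a, hle₀ a.2⟩).mp ?_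
    rw [mem_maximalIdeal]
    exact fun hu ↦ ha (hloc₀.map_nonunit _ hu)
  -- generators of the maximal ideal
  obtain ⟨t, ht⟩ := IsNoetherian.noetherian (maximalIdeal A)
  have htm : ∀ y ∈ t, y ∈ maximalIdeal A := fun y hy ↦ ht ▸ Submodule.subset_span hy
  have hne : t.Nonempty := by
    rw [Finset.nonempty_iff_ne_empty]
    rintro rfl
    exact hA (by rw [← ht, Finset.coe_empty, Submodule.span_empty])
  obtain ⟨x, hxt, hxmax⟩ := t.exists_max_image (fun y ↦ V₀.valuation (y : L)) hne
  have hx0 : (x : L) ≠ 0 := by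
    intro hx
    apply hA
    rw [← ht, Submodule.span_eq_bot]
    intro y hy
    have := hxmax y hy
    rw [hx, map_zero] at this
    exact Subtype.ext ((Valuation.zero_iff _).mp (le_antisymm this zero_le))
  -- the finitely generated algebra inside `V₀`
  let s' : Finset L := s.image (fun z ↦ if z ∈ V₀ then z else z⁻¹) ∪
    t.image (fun y : A ↦ (y : L) / x)
  let B : Subalgebra A L := Algebra.adjoin A (s' : Set L)
  have hBV : ∀ b ∈ B, b ∈ V₀ := by
    intro b hb
    induction hb using Algebra.adjoin_induction with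
    | mem y hy =>
      simp only [s', Finset.coe_union, Finset.coe_image, Set.mem_union, Set.mem_image] at hy
      rcases hy with ⟨z, _, rfl⟩ | ⟨z, hz, rfl⟩
      · split_ifs with h
        · exact h
        · exact (V₀.mem_or_inv_mem z).resolve_left h
      · rw [← V₀.valuation_le_one_iff, map_div₀]
        exact div_le_one_of_le₀ (hxmax z hz) zero_le
    | algebraMap r => exact hle₀ r.2
    | add a b _ _ ha hb => exact add_mem ha hb
    | mul a b _ _ ha hb => exact mul_mem ha hb
  have : Algebra.FiniteType A B := B.fg_iff_finiteType.mp (Subalgebra.fg_adjoin_finset s')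
  let B' : Subring L := B.toSubring
  have hBnoeth : IsNoetherianRing B' := Algebra.FiniteType.isNoetherianRing A B
  -- a height one prime over `x`
  let xB : B' := ⟨x, B.algebraMap_mem x⟩
  have hxu : ¬ IsUnit xB := by
    intro hu
    obtain ⟨y, hy⟩ := isUnit_iff_exists_inv.mp hu
    have hy' : (x : L) * y = 1 := congrArg Subtype.val hy
    have h1 := hm₀ x (htm x hxt)
    have h2 := (V₀.valuation_le_one_iff _).mpr (hBV _ y.2)
    have h3 := congrArg V₀.valuation hy'
    rw [map_mul, map_one] at h3
    exact (mul_lt_one_of_lt_of_le h1 h2).ne h3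
  have htop : Ideal.span {xB} ≠ ⊤ := by rwa [Ne, Ideal.span_singleton_eq_top]
  obtain ⟨P, hP⟩ := Ideal.nonempty_minimalPrimes htop
  have : P.IsPrime := hP.1.1
  have hxP : xB ∈ P := hP.1.2 (Ideal.subset_span rfl)
  have hmP : ∀ a ∈ maximalIdeal A, (⟨a, B.algebraMap_mem a⟩ : B') ∈ P := by
    intro a ha
    suffices maximalIdeal A ≤ P.comap (algebraMap A B : A →+* B') from this ha
    rw [← ht, Submodule.span_le]
    intro y hy
    have hyB : (y : L) / x ∈ B := Algebra.subset_adjoin (by
      simp only [s', Finset.coe_union, Finset.coe_image, Set.mem_union, Set.mem_image]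
      exact Or.inr ⟨y, hy, rfl⟩)
    have : (⟨y, B.algebraMap_mem y⟩ : B') = ⟨_, hyB⟩ * xB := by
      apply Subtype.ext
      show (y : L) = (y : L) / x * x
      rw [div_mul_cancel₀ _ hx0]
    show (⟨y, B.algebraMap_mem y⟩ : B') ∈ P
    rw [this]
    exact P.mul_mem_left _ hxP
  -- the one-dimensional local ring
  let C : LocalSubring L := LocalSubring.ofPrime B' P
  have : IsNoetherianRing C.toSubring :=
    IsLocalization.isNoetherianRing (R := B') P.primeCompl C.toSubring hBnoeth
  have hht : P.height ≤ 1 :=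
    Ideal.height_le_one_of_isPrincipal_of_mem_minimalPrimes (Ideal.span {xB}) P hP
  have : Ring.KrullDimLE 1 C.toSubring := by
    rw [Ring.KrullDimLE, Order.krullDimLE_iff]
    show ringKrullDim C.toSubring ≤ _
    rw [IsLocalization.AtPrime.ringKrullDim_eq_height (R := B') P C.toSubring]
    exact WithBot.coe_le_coe.mpr hht
  have hAC : ∀ b ∈ B, b ∈ C.toSubring := fun b hb ↦ LocalSubring.le_ofPrime B' P hb
  have : IsFractionRing C.toSubring L := by
    refine isFractionRing_of_closure_eq_top _ (eq_top_iff.mpr ?_)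
    rw [← hs, Subfield.closure_le]
    rintro z (hz | hz)
    · exact Subfield.subset_closure (hAC _ (B.algebraMap_mem (⟨z, hz⟩ : A)))
    · have : (if z ∈ V₀ then z else z⁻¹) ∈ B := Algebra.subset_adjoin (by
        simp only [s', Finset.coe_union, Finset.coe_image, Set.mem_union, Set.mem_image]
        exact Or.inl ⟨z, hz, rfl⟩)
      have := Subfield.subset_closure (hAC _ this)
      split_ifs at this with h
      · exact this
      · simpa using inv_mem this
  obtain ⟨V, hleV, hlocV⟩ := LocalSubring.exists_le_valuationSubring C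
  have hmV : ∀ a ∈ maximalIdeal A, V.valuation (a : L) < 1 := by
    intro a ha
    let bC : C.toSubring := ⟨(a : L), hAC _ (B.algebraMap_mem a)⟩
    have hbC : bC ∈ maximalIdeal C.toSubring := by
      rw [← IsLocalization.AtPrime.map_eq_maximalIdeal P]
      exact Ideal.mem_map_of_mem (algebraMap B' C.toSubring) (hmP a ha)
    refine (V.valuation_lt_one_iff ⟨a, hleV bC.2⟩).mp ?_
    rw [mem_maximalIdeal]
    exact fun hu ↦ hbC (hlocV.map_nonunit bC hu)
  let R : Subalgebra C.toSubring L :=
    { V.toSubring with algebraMap_mem' := fun c ↦ hleV c.2 }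
  have : Ring.KrullDimLE 1 C.toSubring := ‹_›
  have hVnoeth : IsNoetherianRing V :=
    @isNoetherianRing_of_ringEquiv R _ V _ (RingEquiv.refl _) (isNoetherianRing_of_between R)
  refine ⟨V, ?_, fun a ha ↦ hleV (hAC _ (B.algebraMap_mem (⟨a, ha⟩ : A))), hmV⟩
  have hnf : ¬ IsField V := by
    rw [isField_iff_maximalIdeal_eq]
    intro h
    have hxV : (x : L) ∈ V := hleV (hAC _ (B.algebraMap_mem x))
    have := (V.valuation_lt_one_iff ⟨x, hxV⟩).mpr (hmV x (htm x hxt))
    rw [h, Ideal.mem_bot] at this
    exact hx0 (congrArg Subtype.val this)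
  have key : IsDiscreteValuationRing V ↔ ValuationRing V :=
    (IsDiscreteValuationRing.TFAE V hnf).out 0 1
  exact key.mpr inferInstance

/-- Every nonzero prime `P` of a Noetherian ring with a map to a field, finitely generated over it,
is dominated by a discrete valuation ring of that field. -/
theorem exists_dvr_dominating {A : Type v} [CommRing A] [IsNoetherianRing A] [Algebra A L]
    (P : Ideal A) [P.IsPrime] (hker : RingHom.ker (algebraMap A L) ≤ P)
    (hne : ∃ a ∈ P, algebraMap A L a ≠ 0) (s : Finset L)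
    (hs : Subfield.closure (Set.range (algebraMap A L) ∪ s) = ⊤) :
    ∃ R : ValuationSubring L, IsDiscreteValuationRing R ∧ (∀ a : A, algebraMap A L a ∈ R) ∧
      ∀ a : A, R.valuation (algebraMap A L a) < 1 ↔ a ∈ P := by
  let A₀ : Subring L := (algebraMap A L).range
  let π : A →+* A₀ := (algebraMap A L).rangeRestrict
  have hπ : Function.Surjective π := (algebraMap A L).rangeRestrict_surjective
  have hkerπ : RingHom.ker π ≤ P := fun a ha ↦ hker (congrArg Subtype.val (RingHom.mem_ker.mp ha))
  let P₀ : Ideal A₀ := P.map π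
  have : P₀.IsPrime := Ideal.map_isPrime_of_surjective hπ hkerπ
  have hP₀ : ∀ a, π a ∈ P₀ ↔ a ∈ P := fun a ↦ by
    rw [← Ideal.mem_comap, Ideal.comap_map_of_surjective π hπ, ← RingHom.ker_eq_comap_bot,
      sup_of_le_left hkerπ]
  let C : LocalSubring L := LocalSubring.ofPrime A₀ P₀
  have : IsNoetherianRing A₀ := isNoetherianRing_of_surjective A A₀ π hπ
  have : IsNoetherianRing C.toSubring :=
    IsLocalization.isNoetherianRing (R := A₀) P₀.primeCompl C.toSubring inferInstance
  have hmem : ∀ a, algebraMap A₀ C.toSubring (π a) ∈ maximalIdeal C.toSubring ↔ a ∈ P := fun a ↦ by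
    rw [IsLocalization.AtPrime.to_map_mem_maximal_iff (I := P₀) C.toSubring (π a), hP₀]
  have hm : maximalIdeal C.toSubring ≠ ⊥ := by
    obtain ⟨a, haP, ha0⟩ := hne
    intro h
    have := (hmem a).mpr haP
    rw [h, Ideal.mem_bot] at this
    exact ha0 (congrArg Subtype.val this)
  obtain ⟨R, hdvr, hle, hlt⟩ := exists_dvr_dominating_subring C.toSubring hm s (by
    rw [eq_top_iff, ← hs, Subfield.closure_le]
    rintro z (⟨a, rfl⟩ | hz)
    · exact Subfield.subset_closure (Or.inl (LocalSubring.le_ofPrime A₀ P₀ ⟨a, rfl⟩))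
    · exact Subfield.subset_closure (Or.inr hz))
  have haR : ∀ a : A, algebraMap A L a ∈ R := fun a ↦
    hle (LocalSubring.le_ofPrime A₀ P₀ ⟨a, rfl⟩)
  refine ⟨R, hdvr, haR, fun a ↦ ⟨fun h ↦ ?_, fun h ↦ hlt _ ((hmem a).mpr h)⟩⟩
  by_contra hna
  have hu : IsUnit (algebraMap A₀ C.toSubring (π a)) := by
    by_contra hu
    exact hna ((hmem a).mp hu)
  have hu' : IsUnit (⟨algebraMap A L a, haR a⟩ : R) := hu.map (Subring.inclusion hle)
  exact h.ne ((R.valuation_eq_one_iff _).mp hu')

/-- A finitely generated field extension is generated, as a field, by the base and finitely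
many elements. -/
theorem exists_closure_eq_top_of_fg {A : Type*} [CommRing A] {K : Type*} [Field K] [Algebra A K]
    [IsFractionRing A K] [Algebra K L] [Algebra A L] [IsScalarTower A K L]
    (hfg : (⊤ : IntermediateField K L).FG) :
    ∃ s : Finset L, Subfield.closure (Set.range (algebraMap A L) ∪ s) = ⊤ := by
  obtain ⟨s, hs⟩ := hfg
  refine ⟨s, eq_top_iff.mpr ?_⟩
  have h := congrArg IntermediateField.toSubfield hs
  rw [IntermediateField.adjoin_toSubfield, IntermediateField.top_toSubfield] at h
  rw [← h, Subfield.closure_le]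
  rintro z (⟨k, rfl⟩ | hz)
  · obtain ⟨a, b, _, rfl⟩ := IsFractionRing.div_surjective A k
    rw [map_div₀, ← IsScalarTower.algebraMap_apply, ← IsScalarTower.algebraMap_apply]
    exact div_mem (Subfield.subset_closure (Or.inl ⟨a, rfl⟩))
      (Subfield.subset_closure (Or.inl ⟨b, rfl⟩))
  · exact Subfield.subset_closure (Or.inr hz)

open Polynomial in
/-- An element outside the integral closure avoids some discrete valuation ring. -/
theorem exists_dvr_not_mem {A : Type v} [CommRing A] [IsNoetherianRing A] [Algebra A L]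
    (s : Finset L) (hs : Subfield.closure (Set.range (algebraMap A L) ∪ s) = ⊤) (x : L)
    (hx : ¬ IsIntegral A x) :
    ∃ R : ValuationSubring L, IsDiscreteValuationRing R ∧ (∀ a : A, algebraMap A L a ∈ R) ∧
      x ∉ R := by
  have hx0 : x ≠ 0 := by
    rintro rfl
    exact hx isIntegral_zero
  have : Nontrivial A := (algebraMap A L).domain_nontrivial
  let := invertibleOfNonzero hx0
  let B : Subalgebra A L := Algebra.adjoin A ({x⁻¹} : Set L)
  let xinv : B := ⟨x⁻¹, Algebra.subset_adjoin rfl⟩
  have htop : Ideal.span {xinv} ≠ ⊤ := by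
    intro eq
    apply hx
    obtain ⟨p, hp, hpx⟩ := Algebra.exists_aeval_invOf_eq_zero_of_idealMap_adjoin_sup_span_eq_top x⁻¹
      (⊥ : Ideal A) bot_ne_top (top_unique <| eq.ge.trans le_sup_right)
    refine ⟨p, by simpa [Monic, sub_eq_zero] using hp, ?_⟩
    rw [← aeval_def]
    simpa using hpx
  obtain ⟨P, hP, hle⟩ := Ideal.exists_le_maximal _ htop
  have : IsNoetherianRing B := by
    have : Algebra.FiniteType A B := B.fg_iff_finiteType.mp (by
      simpa [B] using Subalgebra.fg_adjoin_finset ({x⁻¹} : Finset L))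
    exact Algebra.FiniteType.isNoetherianRing A B
  obtain ⟨R, hR, hmem, hval⟩ := exists_dvr_dominating (A := B) P
    (fun b hb ↦ by
      have : b = 0 := Subtype.ext hb
      rw [this]; exact P.zero_mem)
    ⟨xinv, hle (Ideal.subset_span rfl), inv_ne_zero hx0⟩ s (by
      rw [eq_top_iff, ← hs, Subfield.closure_le]
      rintro z (⟨a, rfl⟩ | hz)
      · exact Subfield.subset_closure (Or.inl ⟨algebraMap A B a, rfl⟩)
      · exact Subfield.subset_closure (Or.inr hz))
  refine ⟨R, hR, fun a ↦ hmem (algebraMap A B a), fun hxR ↦ ?_⟩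
  have h1 : R.valuation x⁻¹ < 1 := (hval xinv).mpr (hle (Ideal.subset_span rfl))
  exact ((R.inv_mem_nonunits_iff.mp (R.mem_nonunits_iff.mpr h1)).resolve_left hx0) hxR

end Dominate

end DvrDomLib
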