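import Groth.Agent.DvrDom.Scheme
import Mathlib.AlgebraicGeometry.Morphisms.Separated
import Mathlib.RingTheory.Ideal.MinimalPrime.Localization

/-!
# Maps from local schemes and residue fields
-/

set_option autoImplicit false

universe u

open CategoryTheory Limits AlgebraicGeometry

namespace DvrDomLib

variable {X Y Z : Scheme.{u}}

/-- Evaluation of sections at a point of a scheme over `Y`. -/
noncomputable def resEval (p : X ⟶ Y) (x : X) (U : Y.Opens) (hx : p x ∈ U) :
    Γ(Y, U) ⟶ X.residueField x :=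
  Y.presheaf.germ U (p x) hx ≫ p.stalkMap x ≫ X.residue x

@[reassoc]
theorem specMap_resEval (p : X ⟶ Y) (x : X) {U : Y.Opens} (hU : IsAffineOpen U) (hx : p x ∈ U) :
    Spec.map (resEval p x U hx) ≫ hU.fromSpec = X.fromSpecResidueField x ≫ p := by
  rw [Scheme.fromSpecResidueField, Category.assoc, ← Scheme.SpecMap_stalkMap_fromSpecStalk,
    ← hU.fromSpecStalk_eq_fromSpecStalk hx, IsAffineOpen.fromSpecStalk]
  simp only [resEval, Spec.map_comp, Category.assoc]

theorem resEval_eq_of_specMap (p : X ⟶ Y) (x : X) {U : Y.Opens} (hU : IsAffineOpen U)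
    (hx : p x ∈ U) (φ : Γ(Y, U) ⟶ X.residueField x)
    (h : Spec.map φ ≫ hU.fromSpec = X.fromSpecResidueField x ≫ p) :
    φ = resEval p x U hx := by
  have : Mono hU.fromSpec := inferInstance
  rw [← specMap_resEval p x hU hx, cancel_mono] at h
  exact Spec.map_injective h

theorem appLE_resEval (h : X ⟶ Y) (f : Y ⟶ Z) (x : X) {U : Z.Opens} (hU : IsAffineOpen U)
    {W : Y.Opens} (hW : IsAffineOpen W) (e : W ≤ f ⁻¹ᵁ U) (hx : h x ∈ W) :
    f.appLE U W e ≫ resEval h x W hx =
      resEval (h ≫ f) x U (by rw [Scheme.Hom.comp_apply]; exact e hx) := by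
  apply resEval_eq_of_specMap (hU := hU)
  rw [Spec.map_comp, Category.assoc, IsAffineOpen.SpecMap_appLE_fromSpec f hU hW e,
    specMap_resEval_assoc]

/-- A morphism from a local affine scheme factors through any affine open containing the image of
the closed point. -/
theorem exists_specMap_fromSpec {R : Type u} [CommRing R] [IsLocalRing R]
    (y : Spec (CommRingCat.of R) ⟶ Y) {U : Y.Opens} (hU : IsAffineOpen U)
    (h : y (IsLocalRing.closedPoint R) ∈ U) :
    ∃ γ : Γ(Y, U) ⟶ CommRingCat.of R, Spec.map γ ≫ hU.fromSpec = y := by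
  have hrange : Set.range y ⊆ Set.range hU.fromSpec := by
    rw [hU.range_fromSpec]
    rintro _ ⟨t, rfl⟩
    exact ((IsLocalRing.specializes_closedPoint (R := R) t).map y.continuous).mem_open U.isOpen h
  refine ⟨Spec.preimage (IsOpenImmersion.lift hU.fromSpec y hrange), ?_⟩
  rw [Spec.map_preimage, IsOpenImmersion.lift_fac]

theorem specMap_fromSpec_apply_mem {R : CommRingCat.{u}} {U : Y.Opens} (hU : IsAffineOpen U)
    (γ : Γ(Y, U) ⟶ R) (t : Spec R) : (Spec.map γ ≫ hU.fromSpec) t ∈ U := by
  rw [Scheme.Hom.comp_apply]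
  rw [← SetLike.mem_coe, ← hU.range_fromSpec]
  exact Set.mem_range_self _

theorem essFiniteType_resEval (p : X ⟶ Y) [LocallyOfFiniteType p] (x : X) {U : Y.Opens}
    (hU : IsAffineOpen U) (hx : p x ∈ U) : (resEval p x U hx).hom.EssFiniteType := by
  have h1 : (Y.presheaf.germ U (p x) hx).hom.EssFiniteType := by
    let := (Y.presheaf.germ U (p x) hx).hom.toAlgebra
    have : IsLocalization.AtPrime (Y.presheaf.stalk (p x)) (hU.primeIdealOf ⟨p x, hx⟩).asIdeal :=
      hU.isLocalization_stalk ⟨p x, hx⟩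
    exact Algebra.EssFiniteType.of_isLocalization (R := Γ(Y, U)) (Y.presheaf.stalk (p x))
      (hU.primeIdealOf ⟨p x, hx⟩).asIdeal.primeCompl
  have h2 : (X.residue x).hom.EssFiniteType :=
    RingHom.FiniteType.essFiniteType (RingHom.FiniteType.of_surjective _ (X.residue_surjective x))
  exact RingHom.EssFiniteType.stableUnderComposition _ _ h1
    (RingHom.EssFiniteType.stableUnderComposition _ _ (LocallyOfFiniteType.stalkMap p x) h2)

theorem exists_closure_resEval (p : X ⟶ Y) [LocallyOfFiniteType p] (x : X) {U : Y.Opens}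
    (hU : IsAffineOpen U) (hx : p x ∈ U) : ∃ s : Finset (X.residueField x),
      Subfield.closure (Set.range (resEval p x U hx).hom ∪ s) = ⊤ := by
  let := (resEval p x U hx).hom.toAlgebra
  have : Algebra.EssFiniteType Γ(Y, U) (X.residueField x) := essFiniteType_resEval p x hU hx
  exact closure_eq_top_of_essFiniteType

/-- A point in the closure of the image of a quasi-compact morphism is a specialization of a point
of the image. -/
theorem exists_specializes_of_mem_closure_range (f : X ⟶ Y) [QuasiCompact f] (r : Y)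
    (hr : r ∈ closure (Set.range f)) : ∃ x : X, f x ⤳ r := by
  obtain ⟨_, ⟨U, hU, rfl⟩, hrU, -⟩ :=
    Y.isBasis_affineOpens.exists_subset_of_mem_open (Set.mem_univ r) isOpen_univ
  have hU : IsAffineOpen U := hU
  obtain ⟨R, g, hg⟩ := isCompact_iff_exists (U := f ⁻¹ᵁ U) |>.mp
    (QuasiCompact.isCompact_preimage (f := f) (U : Set Y) U.isOpen hU.isCompact)
  have hsub : Set.range (g ≫ f) ⊆ Set.range hU.fromSpec := by
    rw [hU.range_fromSpec]
    rintro _ ⟨t, rfl⟩
    rw [Scheme.Hom.comp_apply]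
    exact (hg ▸ Set.mem_range_self (f := g) t : g t ∈ (f ⁻¹ᵁ U : Set X))
  let φ := Spec.preimage (IsOpenImmersion.lift hU.fromSpec (g ≫ f) hsub)
  have hφ : Spec.map φ ≫ hU.fromSpec = g ≫ f := by
    rw [Spec.map_preimage, IsOpenImmersion.lift_fac]
  obtain ⟨r₀, hr₀⟩ : r ∈ Set.range hU.fromSpec := by rw [hU.range_fromSpec]; exact hrU
  have hr₀' : r₀ ∈ closure (Set.range (PrimeSpectrum.comap φ.hom)) := by
    have h1 : r₀ ∈ closure (hU.fromSpec ⁻¹' Set.range f) := by
      rw [← hU.fromSpec.isOpenEmbedding.isOpenMap.preimage_closure_eq_closure_preimage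
        hU.fromSpec.continuous]
      show hU.fromSpec r₀ ∈ closure (Set.range f)
      rwa [hr₀]
    refine closure_mono ?_ h1
    rintro t ⟨x, hx⟩
    obtain ⟨s, hs⟩ : x ∈ Set.range g := by
      rw [hg]
      show f x ∈ U
      rw [hx, ← SetLike.mem_coe, ← hU.range_fromSpec]
      exact Set.mem_range_self _
    refine ⟨s, hU.fromSpec.isOpenEmbedding.injective ?_⟩
    show hU.fromSpec (Spec.map φ s) = _
    rw [← Scheme.Hom.comp_apply, hφ, Scheme.Hom.comp_apply, hs, hx]
  rw [PrimeSpectrum.closure_range_comap] at hr₀'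
  replace hr₀' : (⊥ : Ideal R).comap φ.hom ≤ r₀.asIdeal := by
    rw [← RingHom.ker_eq_comap_bot]
    exact hr₀'
  have : r₀.asIdeal.IsPrime := (r₀ : PrimeSpectrum Γ(Y, U)).isPrime
  obtain ⟨P, hP, hPle⟩ := Ideal.exists_minimalPrimes_le hr₀'
  obtain ⟨Q, hQ, _, hQP⟩ := Ideal.exists_comap_eq_of_mem_minimalPrimes φ.hom P hP
  let q : Spec R := (⟨Q, hQ⟩ : PrimeSpectrum R)
  refine ⟨g q, ?_⟩
  rw [← Scheme.Hom.comp_apply, ← hφ, Scheme.Hom.comp_apply, ← hr₀]
  refine Specializes.map ?_ hU.fromSpec.continuous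
  refine (PrimeSpectrum.le_iff_specializes _ _).mp ?_
  show Q.comap φ.hom ≤ r₀.asIdeal
  exact hQP ▸ hPle

/-- Every point has a generization which is the generic point of an irreducible component. -/
theorem exists_generic_specializes (x : X) :
    ∃ η : X, closure {η} ∈ irreducibleComponents (X : Type u) ∧ η ⤳ x := by
  obtain ⟨η, hη⟩ := QuasiSober.sober
    (isIrreducible_irreducibleComponent (x := x)) isClosed_irreducibleComponent
  refine ⟨η, ?_, hη.specializes mem_irreducibleComponent⟩
  rw [hη.def]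
  exact irreducibleComponent_mem_irreducibleComponents x

end DvrDomLib
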