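import Groth.Agent.DvrDom.Scheme
import Groth.Agent.DvrDom.Descent
import Mathlib.RingTheory.Localization.FractionRing

/-!
# Valuative criteria with discrete valuation rings
-/

set_option autoImplicit false

universe u

open CategoryTheory Limits AlgebraicGeometry MorphismProperty

namespace DvrDomLib

variable {X Y : Scheme.{u}}

/-- Existence part of the valuative criterion, for discrete valuation rings only. -/
def DvrExistence (f : X ⟶ Y) : Prop :=
  ∀ (A : Type u) [CommRing A] [IsDomain A] [IsDiscreteValuationRing A]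
    (x : Spec (CommRingCat.of (FractionRing A)) ⟶ X) (y : Spec (CommRingCat.of A) ⟶ Y),
    x ≫ f = Spec.map (CommRingCat.ofHom (algebraMap A (FractionRing A))) ≫ y →
      ∃ l : Spec (CommRingCat.of A) ⟶ X, l ≫ f = y ∧
        Spec.map (CommRingCat.ofHom (algebraMap A (FractionRing A))) ≫ l = x

/-- Uniqueness part of the valuative criterion, for discrete valuation rings only. -/
def DvrUniqueness (f : X ⟶ Y) : Prop :=
  ∀ (A : Type u) [CommRing A] [IsDomain A] [IsDiscreteValuationRing A]
    (l₁ l₂ : Spec (CommRingCat.of A) ⟶ X), l₁ ≫ f = l₂ ≫ f →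
      Spec.map (CommRingCat.ofHom (algebraMap A (FractionRing A))) ≫ l₁ =
        Spec.map (CommRingCat.ofHom (algebraMap A (FractionRing A))) ≫ l₂ → l₁ = l₂

theorem DvrExistence.exists_lift {f : X ⟶ Y} (H : DvrExistence f) (A : Type u) [CommRing A]
    [IsDomain A] [IsDiscreteValuationRing A] (K : Type u) [Field K] [Algebra A K]
    [IsFractionRing A K] (x : Spec (CommRingCat.of K) ⟶ X) (y : Spec (CommRingCat.of A) ⟶ Y)
    (w : x ≫ f = Spec.map (CommRingCat.ofHom (algebraMap A K)) ≫ y) :
    ∃ l : Spec (CommRingCat.of A) ⟶ X, l ≫ f = y ∧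
      Spec.map (CommRingCat.ofHom (algebraMap A K)) ≫ l = x := by
  let e : FractionRing A ≃ₐ[A] K := FractionRing.algEquiv A K
  let a : Spec (CommRingCat.of (FractionRing A)) ⟶ Spec (CommRingCat.of K) :=
    Spec.map (CommRingCat.ofHom e.symm.toRingHom)
  let b : Spec (CommRingCat.of K) ⟶ Spec (CommRingCat.of (FractionRing A)) :=
    Spec.map (CommRingCat.ofHom e.toRingHom)
  have hb : b ≫ Spec.map (CommRingCat.ofHom (algebraMap A (FractionRing A))) =
      Spec.map (CommRingCat.ofHom (algebraMap A K)) := by
    rw [← Spec.map_comp]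
    congr 1
    ext r
    exact e.commutes r
  have hab : b ≫ a = 𝟙 _ := by
    rw [← Spec.map_comp, ← Spec.map_id]
    congr 1
    ext r
    exact e.apply_symm_apply r
  have ha : a ≫ Spec.map (CommRingCat.ofHom (algebraMap A K)) =
      Spec.map (CommRingCat.ofHom (algebraMap A (FractionRing A))) := by
    rw [← Spec.map_comp]
    congr 1
    ext r
    exact e.symm.commutes r
  obtain ⟨l, hl₁, hl₂⟩ := H A (a ≫ x) y (by rw [Category.assoc, w, ← Category.assoc, ha])
  refine ⟨l, hl₁, ?_⟩
  rw [← hb, Category.assoc, hl₂, ← Category.assoc, hab, Category.id_comp]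

theorem DvrExistence.of_isPullback {X' Y' : Scheme.{u}} {f : X ⟶ Y} {f' : X' ⟶ Y'}
    {g' : X' ⟶ X} {g : Y' ⟶ Y} (h : IsPullback g' f' f g) (H : DvrExistence f) :
    DvrExistence f' := by
  intro A _ _ _ x y w
  obtain ⟨l, hl₁, hl₂⟩ := H A (x ≫ g') (y ≫ g) (by
    rw [Category.assoc, h.w, ← Category.assoc, w, Category.assoc])
  refine ⟨h.lift l y hl₁, h.lift_snd _ _ _, ?_⟩
  apply h.hom_ext
  · rw [Category.assoc, h.lift_fst, hl₂]
  · rw [Category.assoc, h.lift_snd, w]

theorem DvrExistence.specializingMap [IsLocallyNoetherian Y] (f : X ⟶ Y) [LocallyOfFiniteType f]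
    (H : DvrExistence f) : SpecializingMap f := by
  intro x y' hsp
  by_cases hne : y' = f x
  · exact ⟨x, specializes_rfl, hne.symm⟩
  obtain ⟨A, h, hA, hclosed, hgen⟩ := exists_dvr_through_specialization f x y' hsp hne
  obtain ⟨l, hl₁, hl₂⟩ := H.exists_lift A (X.residueField x) (X.fromSpecResidueField x) h hgen.symm
  refine ⟨l (IsLocalRing.closedPoint A), ?_, ?_⟩
  · let η : Spec (CommRingCat.of (X.residueField x)) := IsLocalRing.closedPoint _
    have hx : l ((Spec.map (CommRingCat.ofHom (algebraMap A (X.residueField x)))) η) = x := by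
      rw [← Scheme.Hom.comp_apply, hl₂]
      exact Scheme.fromSpecResidueField_apply x η
    exact (specializes_of_eq hx.symm).trans
      ((IsLocalRing.specializes_closedPoint (R := A) _).map l.continuous)
  · erw [← Scheme.Hom.comp_apply, hl₁, hclosed]

theorem universallyClosed_of_dvrExistence [IsLocallyNoetherian Y] (f : X ⟶ Y)
    [LocallyOfFiniteType f] [QuasiCompact f] (H : DvrExistence f) : UniversallyClosed f := by
  refine IsZariskiLocalAtTarget.of_openCover (P := @UniversallyClosed) Y.affineOpenCover.openCover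
    fun i ↦ ?_
  let B : CommRingCat.{u} := Y.affineOpenCover.X i
  let g : Spec B ⟶ Y := Y.affineOpenCover.f i
  have : IsOpenImmersion g := Y.affineOpenCover.map_prop i
  have : IsLocallyNoetherian (Spec B) := isLocallyNoetherian_of_isOpenImmersion g
  have : IsNoetherianRing B := isLocallyNoetherian_Spec.mp this
  have : QuasiCompact (pullback.snd f g) := inferInstance
  show UniversallyClosed (pullback.snd f g)
  rw [universallyClosed_eq_universallySpecializing]
  refine ⟨Descent.universally_specializingMap _ fun D _ _ _ ↦ ?_, inferInstance⟩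
  have : IsNoetherianRing (CommRingCat.of D) := Algebra.FiniteType.isNoetherianRing B D
  have : IsLocallyNoetherian (Spec (CommRingCat.of D)) := isLocallyNoetherian_Spec.mpr this
  exact DvrExistence.specializingMap _
    ((H.of_isPullback (IsPullback.of_hasPullback f g)).of_isPullback
      (IsPullback.of_hasPullback _ _))

theorem dvrExistence_of_universallyClosed (f : X ⟶ Y) [UniversallyClosed f] : DvrExistence f := by
  intro A _ _ _ x y w
  have h : ValuativeCriterion.Existence f := by
    have := ‹UniversallyClosed f›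
    rw [UniversallyClosed.eq_valuativeCriterion] at this
    exact this.1
  obtain ⟨⟨⟨l, hl₁, hl₂⟩⟩⟩ := h { R := A, K := FractionRing A, i₁ := x, i₂ := y, commSq := ⟨w⟩ }
  exact ⟨l, hl₂, hl₁⟩

theorem universallyClosed_iff_dvrExistence [IsLocallyNoetherian Y] (f : X ⟶ Y)
    [LocallyOfFiniteType f] [QuasiCompact f] : UniversallyClosed f ↔ DvrExistence f :=
  ⟨fun _ ↦ dvrExistence_of_universallyClosed f, universallyClosed_of_dvrExistence f⟩

theorem dvrUniqueness_of_isSeparated (f : X ⟶ Y) [IsSeparated f] : DvrUniqueness f := by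
  intro A _ _ _ l₁ l₂ h₁ h₂
  let S : ValuativeCommSq f :=
    { R := A, K := FractionRing A
      i₁ := Spec.map (CommRingCat.ofHom (algebraMap A (FractionRing A))) ≫ l₁
      i₂ := l₁ ≫ f
      commSq := ⟨Category.assoc _ _ _⟩ }
  have := IsSeparated.valuativeCriterion f S
  exact congrArg CommSq.LiftStruct.l
    (Subsingleton.elim (α := S.commSq.LiftStruct) ⟨l₁, rfl, rfl⟩ ⟨l₂, h₂.symm, h₁.symm⟩)

theorem isSeparated_of_dvrUniqueness [IsLocallyNoetherian Y] (f : X ⟶ Y) [LocallyOfFiniteType f]
    (H : DvrUniqueness f) : IsSeparated f := by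
  have : IsLocallyNoetherian X := LocallyOfFiniteType.isLocallyNoetherian f
  have : IsLocallyNoetherian (pullback f f) :=
    LocallyOfFiniteType.isLocallyNoetherian (pullback.fst f f)
  have : QuasiCompact (pullback.diagonal f) := QuasiSeparated.quasiCompact_diagonal
  have hd : DvrExistence (pullback.diagonal f) := by
    intro A _ _ _ x y w
    refine ⟨y ≫ pullback.fst f f, ?_, ?_⟩
    · have h12 : y ≫ pullback.fst f f = y ≫ pullback.snd f f := by
        refine H A _ _ (by simp [pullback.condition]) ?_
        rw [← Category.assoc, ← w, ← Category.assoc, ← w]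
        simp
      apply pullback.hom_ext
      · simp
      · simpa using h12
    · rw [← Category.assoc, ← w]
      simp
  have := universallyClosed_of_dvrExistence (pullback.diagonal f) hd
  exact ⟨.of_isPreimmersion _ (pullback.diagonal f).isClosedMap.isClosed_range⟩

theorem isSeparated_iff_dvrUniqueness [IsLocallyNoetherian Y] (f : X ⟶ Y)
    [LocallyOfFiniteType f] : IsSeparated f ↔ DvrUniqueness f :=
  ⟨fun _ ↦ dvrUniqueness_of_isSeparated f, isSeparated_of_dvrUniqueness f⟩

theorem isProper_iff_dvr [IsLocallyNoetherian Y] (f : X ⟶ Y) [LocallyOfFiniteType f]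
    [QuasiCompact f] : IsProper f ↔ DvrExistence f ∧ DvrUniqueness f := by
  constructor
  · intro h
    exact ⟨dvrExistence_of_universallyClosed f, dvrUniqueness_of_isSeparated f⟩
  · rintro ⟨he, hu⟩
    have := universallyClosed_of_dvrExistence f he
    have := isSeparated_of_dvrUniqueness f hu
    exact { }

end DvrDomLib
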