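import Groth.Agent.DvrDom.Descent
import Mathlib.AlgebraicGeometry.AffineSpace

/-!
# Tests for universally closed morphisms
-/

set_option autoImplicit false

universe u

open CategoryTheory Limits AlgebraicGeometry MorphismProperty

namespace DvrDomLib

/-- Specializing maps restrict along preimmersions of the base. -/
theorem specializingMap_of_isPullback {P X T S : Scheme.{u}} {g' : P ⟶ X} {f' : P ⟶ T} {f : X ⟶ S}
    {g : T ⟶ S} (h : IsPullback g' f' f g) [IsPreimmersion g] (hf : SpecializingMap f) :
    SpecializingMap f' := by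
  intro z c hc
  have hg' : IsPreimmersion g' := MorphismProperty.of_isPullback h.flip inferInstance
  have h1 : f (g' z) ⤳ g c := by
    rw [← Scheme.Hom.comp_apply, h.w, Scheme.Hom.comp_apply]
    exact hc.map g.continuous
  obtain ⟨w, hw, hwc⟩ := hf h1
  obtain ⟨q, hq₁, hq₂⟩ := Scheme.exists_preimage_of_isPullback h w c hwc
  exact ⟨q, g'.isEmbedding.isInducing.specializes_iff.mp (hq₁ ▸ hw), hq₂⟩

/-- A quasi-compact morphism whose base changes to affine spaces are closed is universally closed. -/
theorem universallyClosed_of_affineSpace {X S : Scheme.{u}} (f : X ⟶ S) [QuasiCompact f]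
    (H : ∀ n : ℕ, IsClosedMap (pullback.snd f (𝔸(ULift.{u} (Fin n); S) ↘ S))) :
    UniversallyClosed f := by
  refine IsZariskiLocalAtTarget.of_openCover (P := @UniversallyClosed) S.affineOpenCover.openCover
    fun i ↦ ?_
  let B : CommRingCat.{u} := S.affineOpenCover.X i
  let g : Spec B ⟶ S := S.affineOpenCover.f i
  have : IsOpenImmersion g := S.affineOpenCover.map_prop i
  have : QuasiCompact (pullback.snd f g) := inferInstance
  show UniversallyClosed (pullback.snd f g)
  rw [universallyClosed_eq_universallySpecializing]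
  refine ⟨Descent.universally_specializingMap _ fun D _ _ hD ↦ ?_, inferInstance⟩
  obtain ⟨n, π, hπ⟩ := Algebra.FiniteType.iff_quotient_mvPolynomial''.mp hD
  let N : Type u := ULift.{u} (Fin n)
  let π' : MvPolynomial N B →ₐ[B] D :=
    π.comp (MvPolynomial.renameEquiv B (Equiv.ulift : N ≃ Fin n)).toAlgHom
  have hπ' : Function.Surjective π' :=
    hπ.comp (MvPolynomial.renameEquiv B (Equiv.ulift : N ≃ Fin n)).surjective
  let k₀ : Spec (CommRingCat.of D) ⟶ 𝔸(N; Spec B) :=
    Spec.map (CommRingCat.ofHom π'.toRingHom) ≫ (AffineSpace.SpecIso N B).inv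
  have : IsClosedImmersion (Spec.map (CommRingCat.ofHom π'.toRingHom)) :=
    IsClosedImmersion.spec_of_surjective _ hπ'
  have : IsClosedImmersion k₀ := by dsimp only [k₀]; infer_instance
  have : IsOpenImmersion (AffineSpace.map N g) :=
    MorphismProperty.of_isPullback (AffineSpace.isPullback_map g).flip inferInstance
  let k : Spec (CommRingCat.of D) ⟶ 𝔸(N; S) := k₀ ≫ AffineSpace.map N g
  have hk : k ≫ (𝔸(N; S) ↘ S) = Spec.map (CommRingCat.ofHom (algebraMap B D)) ≫ g := by
    simp only [k, k₀, Category.assoc, AffineSpace.map_over, AffineSpace.SpecIso_inv_over_assoc,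
      ← Spec.map_comp_assoc]
    congr 2
    ext b
    simp [π']
  let fD := pullback.snd (pullback.snd f g) (Spec.map (CommRingCat.ofHom (algebraMap B D)))
  have hbig : IsPullback
      (pullback.fst (pullback.snd f g) (Spec.map (CommRingCat.ofHom (algebraMap B D))) ≫
        pullback.fst f g) fD f (k ≫ (𝔸(N; S) ↘ S)) := by
    rw [hk]
    exact (IsPullback.of_hasPullback _ _).paste_horiz (IsPullback.of_hasPullback f g)
  let k' := pullback.lift _ (fD ≫ k) (hbig.w.trans (Category.assoc _ _ _).symm)
  have hsq : IsPullback k' fD (pullback.snd f (𝔸(N; S) ↘ S)) k := by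
    refine IsPullback.of_right ?_ (pullback.lift_snd _ _ _) (IsPullback.of_hasPullback _ _)
    rw [pullback.lift_fst]
    exact hbig
  have : IsPreimmersion k := by dsimp only [k]; infer_instance
  exact specializingMap_of_isPullback hsq (H n).specializingMap

theorem universallyClosed_iff_affineSpace {X S : Scheme.{u}} (f : X ⟶ S) [QuasiCompact f] :
    UniversallyClosed f ↔
      ∀ n : ℕ, IsClosedMap (pullback.snd f (𝔸(ULift.{u} (Fin n); S) ↘ S)) :=
  ⟨fun _ n ↦ (pullback.snd f _).isClosedMap, universallyClosed_of_affineSpace f⟩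

end DvrDomLib
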