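import Groth.Agent.DvrDom.Points
import Mathlib.AlgebraicGeometry.ValuativeCriterion
import Mathlib.Algebra.Category.Ring.Epi
import Mathlib.AlgebraicGeometry.Morphisms.UniversallyInjective
import Mathlib.LinearAlgebra.Basis.VectorSpace

/-!
# Monomorphisms, residue fields, and sections over valuation rings
-/

set_option autoImplicit false

universe u

open CategoryTheory Limits AlgebraicGeometry
open scoped TensorProduct

namespace DvrDomLib

/-- A field extension which is an epimorphism of rings is trivial. -/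
theorem surjective_of_isEpi_field (K L : Type u) [Field K] [Field L] [Algebra K L]
    [Algebra.IsEpi K L] : Function.Surjective (algebraMap K L) := by
  intro s
  by_contra hs
  have hind : LinearIndependent K ![(1 : L), s] := by
    rw [LinearIndependent.pair_iff' one_ne_zero]
    intro c hc
    exact hs ⟨c, by rw [← hc, Algebra.algebraMap_eq_smul_one]⟩
  let b := Module.Basis.extend hind.linearIndepOn_id
  obtain ⟨φ, hφ1, hφs⟩ : ∃ φ : L →ₗ[K] K, φ 1 = 1 ∧ φ s = 0 := by
    have h1 : (1 : L) ∈ hind.linearIndepOn_id.extend (Set.subset_univ _) :=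
      hind.linearIndepOn_id.subset_extend _ ⟨0, rfl⟩
    have h2 : s ∈ hind.linearIndepOn_id.extend (Set.subset_univ _) :=
      hind.linearIndepOn_id.subset_extend _ ⟨1, rfl⟩
    refine ⟨b.coord ⟨1, h1⟩, ?_, ?_⟩
    · have : b ⟨1, h1⟩ = 1 := Module.Basis.extend_apply_self _ _
      conv_lhs => arg 2; rw [← this]
      simp
    · have : b ⟨s, h2⟩ = s := Module.Basis.extend_apply_self _ _
      have hne : (⟨1, h1⟩ : hind.linearIndepOn_id.extend (Set.subset_univ _)) ≠ ⟨s, h2⟩ :=
        fun h ↦ hs ⟨1, by rw [map_one]; exact congrArg Subtype.val h⟩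
      conv_lhs => arg 2; rw [← this]
      simp [hne.symm]
  have key : (1 : L) ⊗ₜ[K] s = s ⊗ₜ[K] (1 : L) :=
    (Algebra.IsEpi.injective_lift_mul (R := K) (A := L)) (by simp)
  have := congrArg ((TensorProduct.lid K L).toLinearMap ∘ₗ LinearMap.rTensor L φ) key
  simp [hφ1, hφs] at this
  exact hs ⟨0, by rw [map_zero, this]⟩

/-- A monomorphism induces isomorphisms of residue fields. -/
theorem residueFieldMap_bijective_of_mono {X Y : Scheme.{u}} (f : X ⟶ Y) [Mono f] (x : X) :
    Function.Bijective (f.residueFieldMap x).hom := by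
  refine ⟨RingHom.injective _, ?_⟩
  have : Mono (Spec.map (f.residueFieldMap x) ≫ Y.fromSpecResidueField (f x)) := by
    rw [Scheme.Hom.SpecMap_residueFieldMap_fromSpecResidueField]
    infer_instance
  have : Mono (Spec.map (f.residueFieldMap x)) :=
    mono_of_mono _ (Y.fromSpecResidueField (f x))
  have hepi : Epi (f.residueFieldMap x) := by
    refine ⟨fun g h e ↦ Spec.map_injective ?_⟩
    rw [← cancel_mono (Spec.map (f.residueFieldMap x)), ← Spec.map_comp, ← Spec.map_comp, e]
  let := (f.residueFieldMap x).hom.toAlgebra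
  have : Algebra.IsEpi (Y.residueField (f x)) (X.residueField x) :=
    CommRingCat.epi_iff_epi.mp hepi
  exact surjective_of_isEpi_field (Y.residueField (f x)) (X.residueField x)

/-- A point of the source of a monomorphism is a point with values in the residue field of its
image. -/
theorem exists_specResidueField_lift_of_mono {X Y : Scheme.{u}} (f : X ⟶ Y) [Mono f] (x : X) :
    ∃ σ : Spec (Y.residueField (f x)) ⟶ X, σ ≫ f = Y.fromSpecResidueField (f x) ∧
      ∀ t, σ t = x := by
  have : IsIso (f.residueFieldMap x) :=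
    (ConcreteCategory.isIso_iff_bijective _).mpr (residueFieldMap_bijective_of_mono f x)
  refine ⟨Spec.map (inv (f.residueFieldMap x)) ≫ X.fromSpecResidueField x, ?_, fun t ↦ ?_⟩
  · rw [Category.assoc, ← Scheme.Hom.SpecMap_residueFieldMap_fromSpecResidueField,
      ← Spec.map_comp_assoc, IsIso.hom_inv_id, Spec.map_id, Category.id_comp]
  · rw [Scheme.Hom.comp_apply, Scheme.fromSpecResidueField_apply]

/-- A rational point over a valuation ring specializing into the closed fibre extends to a section. -/
theorem exists_section_of_specializes {A : Type u} [CommRing A] [IsDomain A] [ValuationRing A]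
    {K : Type u} [Field K] [Algebra A K] [IsFractionRing A K] {X : Scheme.{u}}
    (f : X ⟶ Spec (CommRingCat.of A)) (x : Spec (CommRingCat.of K) ⟶ X)
    (hx : x ≫ f = Spec.map (CommRingCat.ofHom (algebraMap A K))) (z : X)
    (hz : x (IsLocalRing.closedPoint K) ⤳ z)
    (hzf : f z = (IsLocalRing.closedPoint A : PrimeSpectrum A)) :
    ∃ s : Spec (CommRingCat.of A) ⟶ X, s ≫ f = 𝟙 _ ∧
      Spec.map (CommRingCat.ofHom (algebraMap A K)) ≫ s = x := by
  have hinjA : Function.Injective (algebraMap A K) := IsFractionRing.injective A K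
  -- a point of the closed fibre in the closure of the rational point
  let xpt := x (IsLocalRing.closedPoint K)
  obtain ⟨_, ⟨W, hW, rfl⟩, hzW, -⟩ :=
    X.isBasis_affineOpens.exists_subset_of_mem_open (Set.mem_univ z) isOpen_univ
  have hW : IsAffineOpen W := hW
  obtain ⟨γ, hγ⟩ := DvrDomLib.exists_specMap_fromSpec x hW (hz.mem_open W.isOpen hzW)
  let a : CommRingCat.of A ⟶ Γ(X, W) := Spec.preimage (hW.fromSpec ≫ f)
  have ha : a ≫ γ = CommRingCat.ofHom (algebraMap A K) := by
    apply Spec.map_injective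
    rw [Spec.map_comp, Spec.map_preimage, ← Category.assoc, hγ, hx]
  obtain ⟨z₀, hz₀⟩ : z ∈ Set.range hW.fromSpec := by rw [hW.range_fromSpec]; exact hzW
  have hker : ∀ w, γ.hom w = 0 → w ∈ z₀.asIdeal := by
    intro w hw
    have h1 : Spec.map γ (IsLocalRing.closedPoint K) ⤳ z₀ := by
      rw [← hW.fromSpec.isOpenEmbedding.isInducing.specializes_iff, hz₀]
      have : hW.fromSpec (Spec.map γ (IsLocalRing.closedPoint K)) = xpt := by
        erw [← Scheme.Hom.comp_apply, hγ]
      rw [this]
      exact hz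
    refine (PrimeSpectrum.le_iff_specializes _ _).mpr h1 ?_
    show γ.hom w ∈ IsLocalRing.maximalIdeal K
    rw [hw]
    exact Ideal.zero_mem _
  have hmax : ∀ m ∈ IsLocalRing.maximalIdeal A, a.hom m ∈ z₀.asIdeal := by
    intro m hm
    have h1 : Spec.map a z₀ = (IsLocalRing.closedPoint A : PrimeSpectrum A) := by
      rw [← hzf, ← hz₀, Spec.map_preimage, Scheme.Hom.comp_apply]
    have h2 : m ∈ (Spec.map a z₀).asIdeal := by rw [h1]; exact hm
    exact h2
  have hmem : ∀ w, γ.hom w ∈ (algebraMap A K).range := by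
    intro w
    by_contra hw
    rcases ValuationRing.isInteger_or_isInteger A (γ.hom w) with h | ⟨m, hm⟩
    · exact hw h
    · have hne : γ.hom w ≠ 0 := fun h0 ↦ hw (h0 ▸ Subring.zero_mem _)
      have hmM : m ∈ IsLocalRing.maximalIdeal A := by
        rw [IsLocalRing.mem_maximalIdeal]
        intro hu
        obtain ⟨n, hn⟩ := isUnit_iff_exists_inv.mp hu
        refine hw ⟨n, ?_⟩
        have h1 : (γ.hom w)⁻¹ * algebraMap A K n = 1 := by rw [← hm, ← map_mul, hn, map_one]
        exact ((inv_mul_eq_one₀ hne).mp h1).symm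
      have hγm : γ.hom (w * a.hom m - 1) = 0 := by
        rw [map_sub, map_mul, map_one, sub_eq_zero]
        have h2 : γ.hom (a.hom m) = algebraMap A K m :=
          DFunLike.congr_fun (congrArg CommRingCat.Hom.hom ha) m
        rw [h2, hm, mul_inv_cancel₀ hne]
      have h3 := z₀.asIdeal.sub_mem (z₀.asIdeal.mul_mem_left w (hmax m hmM)) (hker _ hγm)
      rw [sub_sub_cancel] at h3
      exact (z₀ : PrimeSpectrum Γ(X, W)).isPrime.ne_top ((Ideal.eq_top_iff_one _).mpr h3)
  choose ε hε using hmem
  let εh : Γ(X, W) ⟶ CommRingCat.of A := CommRingCat.ofHom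
    { toFun := ε
      map_one' := hinjA (by rw [hε, map_one, map_one])
      map_mul' := fun p q ↦ hinjA (by rw [hε, map_mul, map_mul, hε, hε])
      map_zero' := hinjA (by rw [hε, map_zero, map_zero])
      map_add' := fun p q ↦ hinjA (by rw [hε, map_add, map_add, hε, hε]) }
  have hεγ : εh ≫ CommRingCat.ofHom (algebraMap A K) = γ := by ext w; exact hε w
  refine ⟨Spec.map εh ≫ hW.fromSpec, ?_, ?_⟩
  · rw [Category.assoc, ← Spec.map_preimage (hW.fromSpec ≫ f), ← Spec.map_comp, ← Spec.map_id]
    congr 1
    ext r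
    exact hinjA ((hε _).trans (DFunLike.congr_fun (congrArg CommRingCat.Hom.hom ha) r))
  · rw [← Category.assoc, ← Spec.map_comp, hεγ, hγ]

/-- A field valued point of the target of a monomorphism through an image point lifts. -/
theorem exists_lift_of_mono_of_apply_eq {X Y : Scheme.{u}} (f : X ⟶ Y) [Mono f] {k : Type u}
    [Field k] (τ : Spec (CommRingCat.of k) ⟶ Y) (x : X)
    (h : τ (IsLocalRing.closedPoint k) = f x) :
    ∃ l : Spec (CommRingCat.of k) ⟶ X, l ≫ f = τ ∧ l (IsLocalRing.closedPoint k) = x := by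
  obtain ⟨σ, hσ, hσx⟩ := exists_specResidueField_lift_of_mono f x
  refine ⟨Spec.map ((Y.residueFieldCongr h.symm).hom ≫
      Y.descResidueField (Scheme.stalkClosedPointTo τ)) ≫ σ, ?_, ?_⟩
  · rw [Category.assoc, hσ, Spec.map_comp, Category.assoc,
      Scheme.residueFieldCongr_fromSpecResidueField h.symm]
    exact Y.descResidueField_stalkClosedPointTo_fromSpecResidueField k τ
  · erw [Scheme.Hom.comp_apply]
    exact hσx _

/-- If field valued lifts of the closed point allow lifting valuative squares over a monomorphism,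
then specializations are reflected: the square through `y₁ ⤳ y₀`. -/
theorem exists_valuativeSquare_of_mono {X Y X' : Scheme.{u}} (f : Y ⟶ X) [Mono f] (g : X' ⟶ X)
    (y₀ y₁ : ↥(pullback f g)) (V : ValuationSubring (X'.residueField (pullback.snd f g y₁)))
    (h : Spec (CommRingCat.of V) ⟶ X')
    (hcl : h (IsLocalRing.closedPoint V) = pullback.snd f g y₀)
    (hgen : Spec.map (CommRingCat.ofHom V.subtype) ≫ h =
      X'.fromSpecResidueField (pullback.snd f g y₁))
    (hlift : ∀ (i₁ : Spec (CommRingCat.of (X'.residueField (pullback.snd f g y₁))) ⟶ Y)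
      (i₂ : Spec (CommRingCat.of V) ⟶ X)
      (w : CommSq i₁ (Spec.map (CommRingCat.ofHom (algebraMap V _))) f i₂),
      (∃ l₀ : Spec (CommRingCat.of (IsLocalRing.ResidueField V)) ⟶ Y,
        l₀ ≫ f = Spec.map (CommRingCat.ofHom (IsLocalRing.residue V)) ≫ i₂) →
      w.HasLift) : y₁ ⤳ y₀ := by
  let q := pullback.snd f g
  obtain ⟨σ₁, hσ₁, hσ₁y⟩ := exists_specResidueField_lift_of_mono q y₁
  let S : ValuativeCommSq f :=
    { R := V, K := X'.residueField (q y₁), i₁ := σ₁ ≫ pullback.fst f g, i₂ := h ≫ g
      commSq := ⟨by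
        rw [Category.assoc, pullback.condition, ← Category.assoc, hσ₁, ← hgen, Category.assoc]
        rfl⟩ }
  let τ := Spec.map (CommRingCat.ofHom (IsLocalRing.residue V)) ≫ h
  have hτ : τ (IsLocalRing.closedPoint (IsLocalRing.ResidueField V)) = q y₀ := by
    erw [Scheme.Hom.comp_apply]
    refine (congrArg h ?_).trans hcl
    exact IsLocalRing.comap_closedPoint (IsLocalRing.residue V)
  obtain ⟨l₀, hl₀, -⟩ := exists_lift_of_mono_of_apply_eq q τ y₀ hτ
  have hl : ∃ l₀ : Spec (CommRingCat.of (IsLocalRing.ResidueField S.R)) ⟶ Y,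
      l₀ ≫ f = Spec.map (CommRingCat.ofHom (IsLocalRing.residue S.R)) ≫ S.i₂ :=
    ⟨l₀ ≫ pullback.fst f g, by
      rw [Category.assoc, pullback.condition, ← Category.assoc, hl₀]
      exact Category.assoc _ _ _⟩
  obtain ⟨⟨⟨L, hL₁, hL₂⟩⟩⟩ := hlift S.i₁ S.i₂ S.commSq hl
  let L' : Spec (CommRingCat.of V) ⟶ pullback f g := pullback.lift L h hL₂
  have h0 : L' (IsLocalRing.closedPoint V) = y₀ := by
    apply q.injective
    erw [← Scheme.Hom.comp_apply, pullback.lift_snd]
    exact hcl
  let η : Spec (X'.residueField (q y₁)) := IsLocalRing.closedPoint (X'.residueField (q y₁))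
  have h1 : L' (Spec.map (CommRingCat.ofHom V.subtype) η) = y₁ := by
    apply q.injective
    erw [← Scheme.Hom.comp_apply, pullback.lift_snd]
    rw [← Scheme.Hom.comp_apply, hgen, Scheme.fromSpecResidueField_apply]
  exact (specializes_of_eq h1.symm).trans
    (((IsLocalRing.specializes_closedPoint (R := V) _).map L'.continuous).trans
      (specializes_of_eq h0))

end DvrDomLib
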