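import Groth.Agent.DvrDom.Points
import Mathlib.AlgebraicGeometry.ValuativeCriterion

/-!
# Valuative criteria tested on a generizing set of points
-/

set_option autoImplicit false

universe u

open CategoryTheory Limits AlgebraicGeometry

namespace DvrDomLib

variable {X S U₀ : Scheme.{u}}


theorem hom_ext_valuationSubring {A : CommRingCat.{u}} {K : Type u} [Field K]
    {V : ValuationSubring K} {φ ψ : A ⟶ CommRingCat.of V}
    (h : φ ≫ CommRingCat.ofHom V.subtype = ψ ≫ CommRingCat.ofHom V.subtype) : φ = ψ := by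
  exact CommRingCat.hom_ext (RingHom.ext fun a ↦
    Subtype.ext (DFunLike.congr_fun (congrArg CommRingCat.Hom.hom h) a))

open IsLocalRing in
/-- A quasi-compact morphism is universally closed if valuation rings of the residue fields of a set
of points generalizing every point have unique lifts. -/
theorem universallyClosed_of_valuationSubring_lifts (f : X ⟶ S) [QuasiCompact f]
    (h : U₀ ⟶ X) (G : Set U₀) (hG : ∀ x : X, ∃ u ∈ G, h u ⤳ x)
    (H : ∀ u ∈ G, ∀ V : ValuationSubring (U₀.residueField u),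
      ∀ y : Spec (CommRingCat.of V) ⟶ S,
        Spec.map (CommRingCat.ofHom (ValuationSubring.subtype V)) ≫ y =
          U₀.fromSpecResidueField u ≫ h ≫ f →
        ∃ l : Spec (CommRingCat.of V) ⟶ X, l ≫ f = y ∧
          Spec.map (CommRingCat.ofHom (ValuationSubring.subtype V)) ≫ l =
            U₀.fromSpecResidueField u ≫ h)
    (huniq : ∀ u ∈ G, ∀ V : ValuationSubring (U₀.residueField u),
      ∀ l₁ l₂ : Spec (CommRingCat.of V) ⟶ X, l₁ ≫ f = l₂ ≫ f →
        Spec.map (CommRingCat.ofHom (ValuationSubring.subtype V)) ≫ l₁ =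
          U₀.fromSpecResidueField u ≫ h →
        Spec.map (CommRingCat.ofHom (ValuationSubring.subtype V)) ≫ l₂ =
          U₀.fromSpecResidueField u ≫ h → l₁ = l₂) :
    UniversallyClosed f := by
  refine UniversallyClosed.of_valuativeCriterion f ?_
  intro sq
  obtain ⟨R, K, i₁, i₂, ⟨w⟩⟩ := sq
  -- the point and the residue field map
  let p := i₁ (closedPoint K)
  let φ : X.residueField p ⟶ CommRingCat.of K :=
    X.descResidueField (Scheme.stalkClosedPointTo i₁)
  have hi₁ : Spec.map φ ≫ X.fromSpecResidueField p = i₁ :=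
    X.descResidueField_stalkClosedPointTo_fromSpecResidueField K i₁
  obtain ⟨u, hu, hup⟩ := hG p
  let kU := U₀.residueField u
  let θ : X.presheaf.stalk p ⟶ kU :=
    X.presheaf.stalkSpecializes hup ≫ h.stalkMap u ≫ U₀.residue u
  obtain ⟨V₁, hV₁, hV₁loc⟩ := exists_factor_valuationRing θ.hom
  let θ₁ : X.presheaf.stalk p →+* V₁ := θ.hom.codRestrict V₁.toSubring hV₁
  have : IsLocalHom θ₁ := hV₁loc
  let ι : X.residueField p →+* ResidueField V₁ := ResidueField.map θ₁
  -- the valuation ring of the residue field of `p`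
  let R₀ : ValuationSubring (X.residueField p) :=
    ValuationSubring.ofSubring ((algebraMap R K).range.comap φ.hom) fun z ↦ by
      rcases ValuationRing.isInteger_or_isInteger R (φ.hom z) with ⟨r, hr⟩ | ⟨r, hr⟩
      · exact Or.inl ⟨r, hr⟩
      · refine Or.inr ⟨r, ?_⟩
        rw [map_inv₀]
        exact hr
  obtain ⟨A', hA', hA'loc⟩ := LocalSubring.exists_le_valuationSubring
    (LocalSubring.map ι R₀.toLocalSubring)
  have hR₀A' : ∀ z ∈ R₀, ι z ∈ A' := fun z hz ↦ hA' ⟨z, hz, rfl⟩
  have hA'R₀ : ∀ z, ι z ∈ A' → z ∈ R₀ := by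
    intro z hz
    by_contra hzR
    have hz0 : z ≠ 0 := fun h0 ↦ hzR (h0 ▸ R₀.zero_mem)
    have hinv : z⁻¹ ∈ R₀ := (R₀.mem_or_inv_mem z).resolve_left hzR
    let e : (LocalSubring.map ι R₀.toLocalSubring).toSubring := ⟨ι z⁻¹, z⁻¹, hinv, rfl⟩
    have hu' : IsUnit (Subring.inclusion hA' e) := by
      rw [isUnit_iff_exists_inv]
      refine ⟨⟨ι z, hz⟩, Subtype.ext ?_⟩
      show ι z⁻¹ * ι z = 1
      rw [← map_mul, inv_mul_cancel₀ hz0, map_one]
    obtain ⟨⟨_, z', hz', rfl⟩, he⟩ := isUnit_iff_exists_inv.mp (hA'loc.map_nonunit e hu')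
    have he' : ι z⁻¹ * ι z' = 1 := congrArg Subtype.val he
    have : z' = z := by
      rw [← map_mul, ← map_one ι] at he'
      have := ι.injective he'
      rwa [inv_mul_eq_one₀ hz0, eq_comm] at this
    exact hzR (this ▸ hz')
  -- the composite valuation ring
  let V : ValuationSubring kU :=
    { carrier := {a | ∃ ha : a ∈ V₁, residue V₁ ⟨a, ha⟩ ∈ A'}
      mul_mem' := by
        rintro a b ⟨ha, ha'⟩ ⟨hb, hb'⟩
        exact ⟨mul_mem ha hb, by
          have := mul_mem ha' hb'
          rwa [← map_mul] at this⟩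
      one_mem' := ⟨one_mem V₁, by
        show residue V₁ 1 ∈ A'
        rw [map_one]; exact one_mem A'⟩
      add_mem' := by
        rintro a b ⟨ha, ha'⟩ ⟨hb, hb'⟩
        exact ⟨add_mem ha hb, by
          have := add_mem ha' hb'
          rwa [← map_add] at this⟩
      zero_mem' := ⟨zero_mem V₁, by
        show residue V₁ 0 ∈ A'
        rw [map_zero]; exact zero_mem A'⟩
      neg_mem' := by
        rintro a ⟨ha, ha'⟩
        exact ⟨neg_mem ha, by
          have := neg_mem ha'
          rwa [← map_neg] at this⟩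
      mem_or_inv_mem' := fun a ↦ by
        by_cases ha : a ∈ V₁
        · by_cases ha' : residue V₁ ⟨a, ha⟩ ∈ A'
          · exact Or.inl ⟨ha, ha'⟩
          · have hne : residue V₁ ⟨a, ha⟩ ≠ 0 := fun h0 ↦ ha' (h0 ▸ A'.zero_mem)
            have hau : IsUnit (⟨a, ha⟩ : V₁) := residue_ne_zero_iff_isUnit _ |>.mp hne
            obtain ⟨⟨b, hb⟩, hab⟩ := isUnit_iff_exists_inv.mp hau
            have hab' : a * b = 1 := congrArg Subtype.val hab
            have hba : a⁻¹ = b := inv_eq_of_mul_eq_one_right hab'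
            refine Or.inr ⟨hba ▸ hb, ?_⟩
            have h1 : residue V₁ ⟨a⁻¹, hba ▸ hb⟩ = (residue V₁ ⟨a, ha⟩)⁻¹ := by
              refine eq_inv_of_mul_eq_one_right ?_
              rw [← map_mul, ← map_one (residue V₁), ← hab]
              congr 1
              exact Subtype.ext (by show a * a⁻¹ = a * b; rw [hba])
            rw [h1]
            exact (A'.mem_or_inv_mem _).resolve_left ha'
        · refine Or.inr ⟨(V₁.mem_or_inv_mem a).resolve_left ha, ?_⟩
          have : residue V₁ ⟨a⁻¹, (V₁.mem_or_inv_mem a).resolve_left ha⟩ = 0 := by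
            rw [residue_eq_zero_iff, ← ValuationSubring.coe_mem_nonunits_iff]
            exact V₁.inv_mem_nonunits_iff.mpr (Or.inr ha)
          rw [this]
          exact A'.zero_mem }
  -- evaluation at `u` of sections defined near `p`
  have hθ : ∀ (W : X.Opens) (hW : p ∈ W),
      X.presheaf.germ W p hW ≫ θ = resEval h u W (hup.mem_open W.isOpen hW) := by
    intro W hW
    simp only [θ, resEval, TopCat.Presheaf.germ_stalkSpecializes_assoc]
  have hres : ∀ (W : X.Opens) (hW : p ∈ W) (a : Γ(X, W)),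
      residue V₁ (θ₁ (X.presheaf.germ W p hW a)) = ι ((resEval (𝟙 X) p W hW).hom a) := by
    intro W hW a
    have : (resEval (𝟙 X) p W hW).hom a = residue (X.presheaf.stalk p) (X.presheaf.germ W p hW a) := by
      simp only [resEval, Scheme.Hom.stalkMap_id, Scheme.residue]
      rfl
    rw [this]
    exact (ResidueField.map_residue θ₁ _).symm
  obtain ⟨_, ⟨U, hU, rfl⟩, hyU, -⟩ := S.isBasis_affineOpens.exists_subset_of_mem_open
    (Set.mem_univ (i₂ (closedPoint R))) isOpen_univ
  have hU : IsAffineOpen U := hU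
  obtain ⟨γ, hγ⟩ := exists_specMap_fromSpec i₂ hU hyU
  have hfp : f p ∈ U := by
    show f (i₁ (closedPoint K)) ∈ U
    erw [← Scheme.Hom.comp_apply, w, Scheme.Hom.comp_apply]
    exact ((specializes_closedPoint (R := R) _).map i₂.continuous).mem_open U.isOpen hyU
  have hfhu : (h ≫ f) u ∈ U := by
    rw [Scheme.Hom.comp_apply]
    exact (hup.map f.continuous).mem_open U.isOpen hfp
  obtain ⟨_, ⟨W, hW, rfl⟩, hpW, hWU⟩ := X.isBasis_affineOpens.exists_subset_of_mem_open
    (show p ∈ f ⁻¹ᵁ U from hfp) (f ⁻¹ᵁ U).isOpen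
  have hW : IsAffineOpen W := hW
  have hφR : resEval (𝟙 X ≫ f) p U (by rwa [Category.id_comp]) ≫ φ =
      γ ≫ CommRingCat.ofHom (algebraMap R K) := by
    apply Spec.map_injective
    rw [← cancel_mono hU.fromSpec, Spec.map_comp, Spec.map_comp, Category.assoc, Category.assoc,
      specMap_resEval, hγ, ← w, ← hi₁]
    simp
  have hψV : ∀ a : Γ(S, U), (resEval (h ≫ f) u U hfhu).hom a ∈ V := by
    intro a
    rw [← appLE_resEval h f u hU hW hWU (hup.mem_open W.isOpen hpW), ← hθ W hpW]
    refine ⟨hV₁ _, ?_⟩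
    show residue V₁ (θ₁ (X.presheaf.germ W p hpW _)) ∈ A'
    rw [hres]
    refine hR₀A' _ ⟨γ a, ?_⟩
    have := DFunLike.congr_fun (congrArg CommRingCat.Hom.hom hφR) a
    rw [← appLE_resEval (𝟙 X) f p hU hW hWU hpW] at this
    exact this.symm
  let yV : Spec (CommRingCat.of V) ⟶ S :=
    Spec.map (CommRingCat.ofHom ((resEval (h ≫ f) u U hfhu).hom.codRestrict V hψV)) ≫ hU.fromSpec
  obtain ⟨l, hl₁, hl₂⟩ := H u hu V yV (by
    rw [← Category.assoc, ← Spec.map_comp]
    show Spec.map (resEval (h ≫ f) u U hfhu) ≫ _ = _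
    rw [specMap_resEval])
  -- compare with the canonical map from `Spec V₁`
  let j : V →+* V₁ :=
    { toFun := fun a ↦ ⟨a.1, a.2.1⟩
      map_one' := rfl, map_mul' := fun _ _ ↦ rfl, map_zero' := rfl, map_add' := fun _ _ ↦ rfl }
  let can : Spec (CommRingCat.of V₁) ⟶ X := Spec.map (CommRingCat.ofHom θ₁) ≫ X.fromSpecStalk p
  have hcan : Spec.map (CommRingCat.ofHom (ValuationSubring.subtype V₁)) ≫ can = U₀.fromSpecResidueField u ≫ h := by
    rw [← Category.assoc, ← Spec.map_comp]
    show Spec.map θ ≫ _ = _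
    simp only [θ, Spec.map_comp, Category.assoc, Scheme.fromSpecResidueField,
      Scheme.SpecMap_stalkSpecializes_fromSpecStalk, Scheme.SpecMap_stalkMap_fromSpecStalk]
  have hgj : Spec.map (CommRingCat.ofHom (ValuationSubring.subtype V₁)) ≫ Spec.map (CommRingCat.ofHom j) = Spec.map (CommRingCat.ofHom (ValuationSubring.subtype V)) := by
    rw [← Spec.map_comp]; rfl
  have hcanf : can ≫ f = Spec.map (CommRingCat.ofHom j) ≫ yV := by
    have hcf : can (closedPoint V₁) = p := by
      show (Spec.map (CommRingCat.ofHom θ₁) ≫ X.fromSpecStalk p) (closedPoint V₁) = p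
      erw [Scheme.Hom.comp_apply]
      refine (congrArg (X.fromSpecStalk p) ?_).trans Scheme.fromSpecStalk_closedPoint
      exact comap_closedPoint θ₁
    obtain ⟨γ₁, hγ₁⟩ := exists_specMap_fromSpec (can ≫ f) hU (by
      erw [Scheme.Hom.comp_apply, hcf]; exact hfp)
    rw [← hγ₁, ← Spec.map_comp_assoc]
    congr 2
    have h1 : γ₁ ≫ CommRingCat.ofHom V₁.subtype = resEval (h ≫ f) u U hfhu := by
      refine resEval_eq_of_specMap _ _ hU hfhu _ ?_
      rw [Spec.map_comp, Category.assoc, hγ₁, ← Category.assoc]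
      show (Spec.map (CommRingCat.ofHom (ValuationSubring.subtype V₁)) ≫ can) ≫ f = _
      rw [hcan, Category.assoc]
    apply hom_ext_valuationSubring
    rw [h1]
    rfl
  have hjl : Spec.map (CommRingCat.ofHom j) ≫ l = can := by
    refine huniq u hu V₁ _ _ ?_ ?_ hcan
    · rw [Category.assoc, hl₁, hcanf]
    · rw [← Category.assoc, hgj, hl₂]
  -- the chart at the closed point of the lift
  obtain ⟨_, ⟨W', hW', rfl⟩, hxW', hW'U⟩ := X.isBasis_affineOpens.exists_subset_of_mem_open
    (show l (closedPoint V) ∈ f ⁻¹ᵁ U by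
      show f (l (closedPoint V)) ∈ U
      erw [← Scheme.Hom.comp_apply, hl₁]
      exact specMap_fromSpec_apply_mem hU _ _) (f ⁻¹ᵁ U).isOpen
  have hW' : IsAffineOpen W' := hW'
  obtain ⟨δ, hδ⟩ := exists_specMap_fromSpec l hW' hxW'
  have hpW' : p ∈ W' := by
    have hcp : can (closedPoint V₁) = p := by
      show (Spec.map (CommRingCat.ofHom θ₁) ≫ X.fromSpecStalk p) (closedPoint V₁) = p
      erw [Scheme.Hom.comp_apply]
      refine (congrArg (X.fromSpecStalk p) ?_).trans Scheme.fromSpecStalk_closedPoint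
      exact comap_closedPoint θ₁
    rw [← hcp, ← hjl, ← hδ]
    erw [Scheme.Hom.comp_apply]
    exact specMap_fromSpec_apply_mem hW' δ _
  have hδ' : δ ≫ CommRingCat.ofHom V.subtype = resEval h u W' (hup.mem_open W'.isOpen hpW') := by
    refine resEval_eq_of_specMap _ _ hW' _ _ ?_
    rw [Spec.map_comp, Category.assoc, hδ]
    exact hl₂
  have hεmem : ∀ a : Γ(X, W'), φ.hom ((resEval (𝟙 X) p W' hpW').hom a) ∈ (algebraMap R K).range := by
    intro a
    refine hA'R₀ _ ?_
    rw [← hres]
    obtain ⟨ha, ha'⟩ := (δ a).2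
    convert ha' using 2
    apply Subtype.ext
    show θ (X.presheaf.germ W' p hpW' a) = (δ ≫ CommRingCat.ofHom V.subtype) a
    rw [hδ', ← hθ W' hpW']
    rfl
  choose ε hε using hεmem
  have hinjR : Function.Injective (algebraMap R K) := IsFractionRing.injective R K
  let εh : Γ(X, W') ⟶ CommRingCat.of R := CommRingCat.ofHom
    { toFun := ε
      map_one' := hinjR (by rw [hε, map_one, map_one, map_one])
      map_mul' := fun a b ↦ hinjR (by rw [hε, map_mul, map_mul, map_mul, hε, hε])
      map_zero' := hinjR (by rw [hε, map_zero, map_zero, map_zero])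
      map_add' := fun a b ↦ hinjR (by rw [hε, map_add, map_add, map_add, hε, hε]) }
  have hεφ : εh ≫ CommRingCat.ofHom (algebraMap R K) = resEval (𝟙 X) p W' hpW' ≫ φ := by
    ext a; exact hε a
  refine ⟨⟨⟨Spec.map εh ≫ hW'.fromSpec, ?_, ?_⟩⟩⟩
  · rw [← Category.assoc, ← Spec.map_comp, hεφ, Spec.map_comp, Category.assoc]
    erw [specMap_resEval (𝟙 X) p hW' hpW', Category.comp_id, hi₁]
  · rw [Category.assoc, ← IsAffineOpen.SpecMap_appLE_fromSpec f hU hW' hW'U,
      ← Spec.map_comp_assoc]
    refine Eq.trans ?_ hγ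
    congr 2
    have hU' : (f.appLE U W' hW'U ≫ εh) ≫ CommRingCat.ofHom (algebraMap R K) =
        γ ≫ CommRingCat.ofHom (algebraMap R K) := by
      rw [Category.assoc, hεφ, ← Category.assoc, appLE_resEval (𝟙 X) f p hU hW' hW'U hpW', hφR]
    ext a
    exact hinjR (DFunLike.congr_fun (congrArg CommRingCat.Hom.hom hU') a)

/-- A quasi-separated morphism is separated if valuation rings of the residue fields of a set of
points generalizing every point have at most one lift. -/
theorem isSeparated_of_valuationSubring (f : X ⟶ S) [QuasiSeparated f]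
    (h : U₀ ⟶ X) (G : Set U₀) (hG : ∀ x : X, ∃ u ∈ G, h u ⤳ x)
    (huniq : ∀ u ∈ G, ∀ V : ValuationSubring (U₀.residueField u),
      ∀ l₁ l₂ : Spec (CommRingCat.of V) ⟶ X, l₁ ≫ f = l₂ ≫ f →
        Spec.map (CommRingCat.ofHom (ValuationSubring.subtype V)) ≫ l₁ =
          U₀.fromSpecResidueField u ≫ h →
        Spec.map (CommRingCat.ofHom (ValuationSubring.subtype V)) ≫ l₂ =
          U₀.fromSpecResidueField u ≫ h → l₁ = l₂) : IsSeparated f := by
  have : QuasiCompact (pullback.diagonal f) := QuasiSeparated.quasiCompact_diagonal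
  refine ⟨IsClosedImmersion.of_isPreimmersion _ (isClosed_of_closure_subset fun r hr ↦ ?_)⟩
  obtain ⟨x, hx⟩ := exists_specializes_of_mem_closure_range _ r hr
  obtain ⟨u, hu, hux⟩ := hG x
  let p := h ≫ pullback.diagonal f
  have hsp : p u ⤳ r := by
    rw [Scheme.Hom.comp_apply]
    exact (hux.map (pullback.diagonal f).continuous).trans hx
  let θ : (pullback f f).presheaf.stalk r ⟶ U₀.residueField u :=
    (pullback f f).presheaf.stalkSpecializes hsp ≫ p.stalkMap u ≫ U₀.residue u
  obtain ⟨V, hV, hloc⟩ := IsLocalRing.exists_factor_valuationRing θ.hom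
  let φ : (pullback f f).presheaf.stalk r →+* V := θ.hom.codRestrict V.toSubring hV
  let y : Spec (CommRingCat.of V) ⟶ pullback f f :=
    Spec.map (CommRingCat.ofHom φ) ≫ (pullback f f).fromSpecStalk r
  have hgen : Spec.map (CommRingCat.ofHom (ValuationSubring.subtype V)) ≫ y =
      U₀.fromSpecResidueField u ≫ h ≫ pullback.diagonal f := by
    rw [← Category.assoc, ← Spec.map_comp]
    show Spec.map θ ≫ _ = _
    simp only [θ, p, Spec.map_comp, Category.assoc, Scheme.fromSpecResidueField,
      Scheme.SpecMap_stalkSpecializes_fromSpecStalk, Scheme.SpecMap_stalkMap_fromSpecStalk]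
  have hcl : y (IsLocalRing.closedPoint V) = r := by
    show (Spec.map (CommRingCat.ofHom φ) ≫ _) (IsLocalRing.closedPoint V) = r
    erw [Scheme.Hom.comp_apply]
    refine (congrArg ((pullback f f).fromSpecStalk r) ?_).trans Scheme.fromSpecStalk_closedPoint
    have : IsLocalHom φ := hloc
    exact IsLocalRing.comap_closedPoint φ
  have h12 : y ≫ pullback.fst f f = y ≫ pullback.snd f f := by
    refine huniq u hu V _ _ (by simp only [Category.assoc, pullback.condition]) ?_ ?_
    · rw [← Category.assoc, hgen, Category.assoc, Category.assoc, pullback.diagonal_fst,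
        Category.comp_id]
    · rw [← Category.assoc, hgen, Category.assoc, Category.assoc, pullback.diagonal_snd,
        Category.comp_id]
  refine ⟨(y ≫ pullback.fst f f) (IsLocalRing.closedPoint V), ?_⟩
  rw [← hcl]
  have hy : (y ≫ pullback.fst f f) ≫ pullback.diagonal f = y := by
    apply pullback.hom_ext
    · simp
    · simpa using h12
  erw [← Scheme.Hom.comp_apply, hy]

end DvrDomLib
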