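import Groth.Agent.DvrDom.Points
import Groth.Agent.DvrDom.ValLifts
import Groth.Agent.DvrDom.Criteria

/-!
# Discrete valuative criteria tested on a dense set of points
-/

set_option autoImplicit false

universe u

open CategoryTheory Limits AlgebraicGeometry

namespace DvrDomLib

variable {X S U₀ : Scheme.{u}}
/-- Separatedness is tested by discrete valuation rings at a set of points whose images generalize
every point. -/
theorem isSeparated_of_points [IsLocallyNoetherian S] (f : X ⟶ S) [LocallyOfFiniteType f]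
    (h : U₀ ⟶ X) [LocallyOfFiniteType h] (G : Set U₀) (hG : ∀ x : X, ∃ u ∈ G, h u ⤳ x)
    (H : ∀ u ∈ G, ∀ R : ValuationSubring (U₀.residueField u), IsDiscreteValuationRing R →
      ∀ l₁ l₂ : Spec (CommRingCat.of R) ⟶ X, l₁ ≫ f = l₂ ≫ f →
        Spec.map (CommRingCat.ofHom (ValuationSubring.subtype R)) ≫ l₁ = U₀.fromSpecResidueField u ≫ h →
        Spec.map (CommRingCat.ofHom (ValuationSubring.subtype R)) ≫ l₂ = U₀.fromSpecResidueField u ≫ h → l₁ = l₂) : IsSeparated f := by
  have : IsLocallyNoetherian X := LocallyOfFiniteType.isLocallyNoetherian f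
  have : IsLocallyNoetherian (pullback f f) :=
    LocallyOfFiniteType.isLocallyNoetherian (pullback.fst f f)
  have : QuasiCompact (pullback.diagonal f) := QuasiSeparated.quasiCompact_diagonal
  refine ⟨IsClosedImmersion.of_isPreimmersion _ (isClosed_of_closure_subset fun r hr ↦ ?_)⟩
  obtain ⟨x, hx⟩ := exists_specializes_of_mem_closure_range _ r hr
  obtain ⟨u, hu, hux⟩ := hG x
  have hsp : (h ≫ pullback.diagonal f) u ⤳ r := by
    rw [Scheme.Hom.comp_apply]
    exact (hux.map (pullback.diagonal f).continuous).trans hx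
  by_cases hne : r = (h ≫ pullback.diagonal f) u
  · exact ⟨h u, by rw [hne, Scheme.Hom.comp_apply]⟩
  obtain ⟨R, y, hR, hcl, hgen⟩ := exists_dvr_through_specialization _ u r hsp hne
  replace hgen : Spec.map (CommRingCat.ofHom (ValuationSubring.subtype R)) ≫ y = U₀.fromSpecResidueField u ≫ h ≫ pullback.diagonal f := hgen
  have h12 : y ≫ pullback.fst f f = y ≫ pullback.snd f f := by
    refine H u hu R hR _ _ (by rw [Category.assoc, Category.assoc, pullback.condition]) ?_ ?_
    · rw [← Category.assoc, hgen, Category.assoc, Category.assoc, pullback.diagonal_fst,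
        Category.comp_id]
    · rw [← Category.assoc, hgen, Category.assoc, Category.assoc, pullback.diagonal_snd,
        Category.comp_id]
  refine ⟨(y ≫ pullback.fst f f) (IsLocalRing.closedPoint R), ?_⟩
  rw [← hcl]
  have hy : (y ≫ pullback.fst f f) ≫ pullback.diagonal f = y := by
    apply pullback.hom_ext
    · simp
    · simpa using h12
  erw [← Scheme.Hom.comp_apply, hy]

/-- Lifts along discrete valuation rings give lifts along all valuation rings of a residue field. -/
theorem exists_lift_valuationSubring [IsLocallyNoetherian S] (f : X ⟶ S) [LocallyOfFiniteType f]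
    [QuasiCompact f] (h : U₀ ⟶ X) [LocallyOfFiniteType h] (u : U₀)
    (H : ∀ R : ValuationSubring (U₀.residueField u), IsDiscreteValuationRing R →
      ∀ y : Spec (CommRingCat.of R) ⟶ S, Spec.map (CommRingCat.ofHom (ValuationSubring.subtype R)) ≫ y = U₀.fromSpecResidueField u ≫ h ≫ f →
        ∃ l : Spec (CommRingCat.of R) ⟶ X, l ≫ f = y ∧
          Spec.map (CommRingCat.ofHom (ValuationSubring.subtype R)) ≫ l = U₀.fromSpecResidueField u ≫ h)
    (V : ValuationSubring (U₀.residueField u)) (y : Spec (CommRingCat.of V) ⟶ S)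
    (hy : Spec.map (CommRingCat.ofHom (ValuationSubring.subtype V)) ≫ y = U₀.fromSpecResidueField u ≫ h ≫ f) :
    ∃ l : Spec (CommRingCat.of V) ⟶ X, l ≫ f = y ∧
      Spec.map (CommRingCat.ofHom (ValuationSubring.subtype V)) ≫ l = U₀.fromSpecResidueField u ≫ h := by
  classical
  obtain ⟨_, ⟨U, hU, rfl⟩, hyU, -⟩ := S.isBasis_affineOpens.exists_subset_of_mem_open
    (Set.mem_univ (y (IsLocalRing.closedPoint V))) isOpen_univ
  have hU : IsAffineOpen U := hU
  have hfu : (h ≫ f) u ∈ U := by
    let η : Spec (U₀.residueField u) := IsLocalRing.closedPoint (U₀.residueField u)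
    have h1 : (Spec.map (CommRingCat.ofHom (ValuationSubring.subtype V)) ≫ y) η = (h ≫ f) u := by
      rw [hy, Scheme.Hom.comp_apply, Scheme.fromSpecResidueField_apply]
    rw [← h1, Scheme.Hom.comp_apply]
    exact ((IsLocalRing.specializes_closedPoint (R := V) _).map y.continuous).mem_open U.isOpen hyU
  obtain ⟨γ, hγ⟩ := exists_specMap_fromSpec y hU hyU
  let ψ := resEval (h ≫ f) u U hfu
  have hγψ : γ ≫ CommRingCat.ofHom V.subtype = ψ := by
    refine resEval_eq_of_specMap _ _ hU hfu _ ?_
    rw [Spec.map_comp, Category.assoc, hγ]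
    exact hy
  have hc : IsCompact ((f ⁻¹ᵁ U : X.Opens) : Set X) :=
    QuasiCompact.isCompact_preimage (f := f) (U : Set S) U.isOpen hU.isCompact
  obtain ⟨𝒲, h𝒲, hcov⟩ := isCompact_iff_finite_and_eq_biUnion_affineOpens.mp hc
  have hle : ∀ W ∈ 𝒲, (W : X.Opens) ≤ f ⁻¹ᵁ U := fun W hW ↦ by
    rw [hcov]; exact le_iSup₂ (f := fun i (_ : i ∈ 𝒲) ↦ (i : X.Opens)) W hW
  by_cases hgood : ∃ W ∈ 𝒲, ∃ hW : h u ∈ (W : X.Opens),
      ∀ a, (resEval h u W hW).hom a ∈ V
  · obtain ⟨W, hW𝒲, hW, hmem⟩ := hgood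
    let δ : Γ(X, W) ⟶ CommRingCat.of V :=
      CommRingCat.ofHom ((resEval h u W hW).hom.codRestrict V hmem)
    have hδ : δ ≫ CommRingCat.ofHom V.subtype = resEval h u W hW := rfl
    refine ⟨Spec.map δ ≫ W.2.fromSpec, ?_, ?_⟩
    · rw [Category.assoc, ← IsAffineOpen.SpecMap_appLE_fromSpec f hU W.2 (hle W hW𝒲),
        ← Spec.map_comp_assoc, ← hγ]
      congr 2
      apply hom_ext_valuationSubring
      rw [Category.assoc, hδ, appLE_resEval h f u hU W.2, hγψ]
    · rw [← Category.assoc, ← Spec.map_comp, hδ]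
      exact specMap_resEval h u W.2 hW
  push Not at hgood
  exfalso
  -- elements of the residue field outside `V`, one for each chart
  choose w hw using hgood
  let t : Finset (U₀.residueField u) := h𝒲.toFinset.image fun W ↦
    if hW : W ∈ 𝒲 ∧ h u ∈ (W : X.Opens) then
      ((resEval h u W hW.2).hom (w W hW.1 hW.2))⁻¹ else 0
  let := ψ.hom.toAlgebra
  let B₀ : Subalgebra Γ(S, U) (U₀.residueField u) := Algebra.adjoin _ (t : Set _)
  have hψV : ∀ a, ψ.hom a ∈ V := fun a ↦ by rw [← hγψ]; exact (γ a).2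
  have hBV : ∀ b ∈ B₀, b ∈ V := by
    intro b hb
    induction hb using Algebra.adjoin_induction with
    | mem y hy =>
      obtain ⟨W, -, rfl⟩ := Finset.mem_image.mp hy
      split_ifs with hW
      · exact (V.mem_or_inv_mem _).resolve_left (hw W hW.1 hW.2)
      · exact V.zero_mem
    | algebraMap r => exact hψV r
    | add a b _ _ ha hb => exact add_mem ha hb
    | mul a b _ _ ha hb => exact mul_mem ha hb
  let incl : B₀ →+* V :=
    { toFun := fun b ↦ ⟨b, hBV _ b.2⟩
      map_one' := rfl, map_mul' := fun _ _ ↦ rfl, map_zero' := rfl, map_add' := fun _ _ ↦ rfl }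
  let P : Ideal B₀ := (IsLocalRing.maximalIdeal V).comap incl
  have : IsNoetherianRing Γ(S, U) := IsLocallyNoetherian.component_noetherian ⟨U, hU⟩
  have : IsNoetherianRing B₀ := by
    have : Algebra.FiniteType Γ(S, U) B₀ :=
      B₀.fg_iff_finiteType.mp (Subalgebra.fg_adjoin_finset t)
    exact Algebra.FiniteType.isNoetherianRing Γ(S, U) B₀
  have hinvP : ∀ (W : X.affineOpens) (hW : W ∈ 𝒲) (hWu : h u ∈ (W : X.Opens)),
      ∃ b ∈ P, (b : U₀.residueField u) = ((resEval h u W hWu).hom (w W hW hWu))⁻¹ ∧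
        (b : U₀.residueField u) ≠ 0 := by
    intro W hW hWu
    have hwV := hw W hW hWu
    have hne : (resEval h u W hWu).hom (w W hW hWu) ≠ 0 := fun h0 ↦ hwV (h0 ▸ V.zero_mem)
    have hmem : ((resEval h u W hWu).hom (w W hW hWu))⁻¹ ∈ B₀ := Algebra.subset_adjoin
      (Finset.mem_image.mpr ⟨W, h𝒲.mem_toFinset.mpr hW, dif_pos ⟨hW, hWu⟩⟩)
    refine ⟨⟨_, hmem⟩, ?_, rfl, inv_ne_zero hne⟩
    show incl _ ∈ IsLocalRing.maximalIdeal V
    rw [← ValuationSubring.coe_mem_nonunits_iff]
    exact (V.inv_mem_nonunits_iff).mpr (Or.inr hwV)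
  have hu : h u ∈ f ⁻¹ᵁ U := by
    show f (h u) ∈ U
    rwa [← Scheme.Hom.comp_apply]
  obtain ⟨W₀, hW₀, hW₀u⟩ : ∃ W ∈ 𝒲, h u ∈ (W : X.Opens) := by
    rw [hcov] at hu
    simpa only [TopologicalSpace.Opens.mem_iSup, exists_prop] using hu
  obtain ⟨s, hs⟩ := exists_closure_resEval (h ≫ f) u hU hfu
  obtain ⟨R, hR, hBR, hRval⟩ := exists_dvr_dominating (L := U₀.residueField u) P
    (fun b hb ↦ by
      have : b = 0 := Subtype.ext hb
      rw [this]; exact P.zero_mem)
    (by obtain ⟨b, hb, _, hb0⟩ := hinvP W₀ hW₀ hW₀u; exact ⟨b, hb, hb0⟩) s (by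
      rw [eq_top_iff, ← hs, Subfield.closure_le]
      rintro z (⟨a, rfl⟩ | hz)
      · exact Subfield.subset_closure (Or.inl ⟨algebraMap Γ(S, U) B₀ a, rfl⟩)
      · exact Subfield.subset_closure (Or.inr hz))
  let γR : Γ(S, U) ⟶ CommRingCat.of R :=
    CommRingCat.ofHom (ψ.hom.codRestrict R fun a ↦ hBR (algebraMap Γ(S, U) B₀ a))
  obtain ⟨l, hl₁, hl₂⟩ := H R hR (Spec.map γR ≫ hU.fromSpec) (by
    rw [← Category.assoc, ← Spec.map_comp]
    show Spec.map ψ ≫ _ = _
    rw [specMap_resEval])
  have hx' : l (IsLocalRing.closedPoint R) ∈ f ⁻¹ᵁ U := by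
    show f (l (IsLocalRing.closedPoint R)) ∈ U
    erw [← Scheme.Hom.comp_apply, hl₁]
    exact specMap_fromSpec_apply_mem hU γR _
  rw [hcov] at hx'
  obtain ⟨W, hW, hxW⟩ : ∃ W ∈ 𝒲, l (IsLocalRing.closedPoint R) ∈ (W : X.Opens) := by
    simpa only [TopologicalSpace.Opens.mem_iSup, exists_prop] using hx'
  obtain ⟨δ, hδ⟩ := exists_specMap_fromSpec l W.2 hxW
  have hWu : h u ∈ (W : X.Opens) := by
    let η : Spec (U₀.residueField u) := IsLocalRing.closedPoint (U₀.residueField u)
    have h1 : (Spec.map (CommRingCat.ofHom (ValuationSubring.subtype R)) ≫ l) η = h u := by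
      rw [hl₂, Scheme.Hom.comp_apply, Scheme.fromSpecResidueField_apply]
    rw [← h1, Scheme.Hom.comp_apply]
    exact ((IsLocalRing.specializes_closedPoint (R := R) _).map l.continuous).mem_open
      (W : X.Opens).isOpen hxW
  have hδ' : δ ≫ CommRingCat.ofHom R.subtype = resEval h u W hWu := by
    refine resEval_eq_of_specMap _ _ W.2 hWu _ ?_
    rw [Spec.map_comp, Category.assoc, hδ]
    exact hl₂
  obtain ⟨b, hbP, hb, -⟩ := hinvP W hW hWu
  have hwR : (resEval h u W hWu).hom (w W hW hWu) ∈ R := by rw [← hδ']; exact (δ _).2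
  have h1 : R.valuation (b : U₀.residueField u) < 1 := (hRval b).mpr hbP
  rw [hb] at h1
  have hne : (resEval h u W hWu).hom (w W hW hWu) ≠ 0 := fun h0 ↦
    hw W hW hWu (h0 ▸ V.zero_mem)
  exact ((R.inv_mem_nonunits_iff.mp (R.mem_nonunits_iff.mpr h1)).resolve_left hne) hwR

open IsLocalRing in
/-- A separated morphism of finite type is universally closed if discrete valuation rings lift at a
set of points whose images generalize every point. -/
theorem universallyClosed_of_points [IsLocallyNoetherian S] (f : X ⟶ S) [LocallyOfFiniteType f]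
    [QuasiCompact f] [IsSeparated f] (h : U₀ ⟶ X) [LocallyOfFiniteType h] (G : Set U₀)
    (hG : ∀ x : X, ∃ u ∈ G, h u ⤳ x)
    (H : ∀ u ∈ G, ∀ R : ValuationSubring (U₀.residueField u), IsDiscreteValuationRing R →
      ∀ y : Spec (CommRingCat.of R) ⟶ S,
        Spec.map (CommRingCat.ofHom (ValuationSubring.subtype R)) ≫ y =
          U₀.fromSpecResidueField u ≫ h ≫ f →
        ∃ l : Spec (CommRingCat.of R) ⟶ X, l ≫ f = y ∧
          Spec.map (CommRingCat.ofHom (ValuationSubring.subtype R)) ≫ l =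
            U₀.fromSpecResidueField u ≫ h) : UniversallyClosed f := by
  refine universallyClosed_of_valuationSubring_lifts f h G hG
    (fun u hu V y hy ↦ exists_lift_valuationSubring f h u (H u hu) V y hy)
    fun u _ V l₁ l₂ hl h₁ h₂ ↦ ?_
  have : IsDominant (Spec.map (CommRingCat.ofHom (ValuationSubring.subtype V))) :=
    ⟨(PrimeSpectrum.denseRange_comap_iff_ker_le_nilRadical _).mpr (by
      have h0 : RingHom.ker V.subtype = ⊥ :=
        (RingHom.injective_iff_ker_eq_bot _).mp Subtype.val_injective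
      exact h0.le.trans bot_le)⟩
  exact ext_of_isDominant_of_isSeparated f hl _ (h₁.trans h₂.symm)

end DvrDomLib

namespace DvrDomLib

open CategoryTheory AlgebraicGeometry

/-- Comparison of the spectra of two fraction fields. -/
theorem exists_specIso_fractionRing (A : Type u) [CommRing A] [IsDomain A] (K : Type u) [Field K]
    [Algebra A K] [IsFractionRing A K] :
    ∃ a : Spec (CommRingCat.of (FractionRing A)) ≅ Spec (CommRingCat.of K),
      a.hom ≫ Spec.map (CommRingCat.ofHom (algebraMap A K)) =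
          Spec.map (CommRingCat.ofHom (algebraMap A (FractionRing A))) ∧
        a.inv ≫ Spec.map (CommRingCat.ofHom (algebraMap A (FractionRing A))) =
          Spec.map (CommRingCat.ofHom (algebraMap A K)) := by
  let e : FractionRing A ≃ₐ[A] K := FractionRing.algEquiv A K
  refine ⟨⟨Spec.map (CommRingCat.ofHom e.symm.toRingHom), Spec.map (CommRingCat.ofHom e.toRingHom),
    ?_, ?_⟩, ?_, ?_⟩
  · rw [← Spec.map_comp, ← Spec.map_id]
    congr 1
    ext r
    exact e.symm_apply_apply r
  · rw [← Spec.map_comp, ← Spec.map_id]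
    congr 1
    ext r
    exact e.apply_symm_apply r
  · rw [← Spec.map_comp]
    congr 1
    ext r
    exact e.symm.commutes r
  · rw [← Spec.map_comp]
    congr 1
    ext r
    exact e.commutes r

/-- In a scheme, the residue field of a point of an irreducible component. -/
theorem generic_specializes_all {X : Scheme.{u}} (x : X) :
    ∃ η ∈ {η : X | closure {η} ∈ irreducibleComponents (X : Type u)}, (𝟙 X : X ⟶ X) η ⤳ x := by
  obtain ⟨η, h1, h2⟩ := exists_generic_specializes x
  exact ⟨η, h1, by simpa using h2⟩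

end DvrDomLib
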